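import Cfsg.Agent.H467.MaxClassPower

/-!
# p-groups of maximal class: the power structure, exceptional groups (helper467)

`p` odd, `h : MC P p n W`.

* `MC.pow_mem`, `MC.pow_notMem`: `2 ≤ j`, `x ∈ W j` implies `x ^ p ∈ W (j + p - 1)`; if moreover
  `x ∉ W (j + 1)` and `j + p ≤ n`, then `x ^ p ∉ W (j + p)`.
* `MC.pow_mem_one`, `MC.pow_notMem_one`: the same for `j = 1` if `p + 2 ≤ n`.
* `MC.exists_pow_ne_one`: if `n = p + 1`, then `P` is not of exponent `p`.
* `MC.Ksub_last_of_odd`, `MC.Ksub_last_of_le`: `P` is not exceptional (`C_P(W (n-2)) = W 1`) if `n`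
  is odd or `p + 2 ≤ n`.
* `MC.deg_of_Ksub_last`: non exceptional implies `[W i, W j] ≤ W (i + j + 1)` for `i, j ≥ 1`.
-/

set_option autoImplicit false

namespace Cfsg.Agent.H467.MaxClass

open Subgroup
open scoped commutatorElement
open Cfsg.Agent.H541.PolySeq Cfsg.Agent.H467.PolyDiff

universe u

variable {P : Type u} [Group P]

namespace MC

variable {p n : ℕ} {W : ℕ → Subgroup P}

theorem W1_ne_top (h : MC P p n W) [hp : Fact p.Prime] : W 1 ≠ ⊤ := by
  intro htop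
  have := h.W1_index
  rw [htop, Subgroup.index_top] at this
  exact hp.out.one_lt.ne this

theorem Ksub_eq [Finite P] (h : MC P p n W) [hp : Fact p.Prime] (hp3 : 3 ≤ p) {i : ℕ} (h1 : 1 ≤ i)
    (h2 : i + 3 ≤ n) : h.Ksub i = W 1 := by
  apply h.eq_W1
  · intro y hy w hw
    rcases Nat.lt_or_ge i 2 with h3 | h3
    · have : i = 1 := by omega
      subst this
      exact h.comm_self hw hy
    · exact h.blackburn hp3 i h3 h2 (commutator_mem_commutator hw hy)
  · exact h.Ksub_ne_top' h1 (by omega)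

theorem pow_index_mem (h : MC P p n W) [hp : Fact p.Prime] (t : P) : t ^ p ∈ W 1 := by
  have := h.pow_p_mem (i := 0) (x := t) (by rw [h.zero]; trivial)
  rwa [zero_add] at this

/-- `t ^ p` is central for `t` outside all two-step centralizers. -/
theorem pow_mem_of_notMem (h : MC P p n W) [hp : Fact p.Prime] {t : P} {m : ℕ} (hm : m + 1 ≤ n)
    (hm1 : 1 ≤ m) (ht : ∀ i, 1 ≤ i → i < m → t ∉ h.Ksub i) : t ^ p ∈ W m :=
  h.mem_of_commute hm ht (h.pow_index_mem t) (Commute.pow_self t p) hm1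

/-- `t x` is conjugate to `t` if `|C(t)| = p²` and `x ∈ W 2 = P'`. -/
theorem exists_conj_eq [Finite P] (h : MC P p n W) [hp : Fact p.Prime] {t x : P} (hx : x ∈ W 2)
    (hc : Nat.card (centralizer ({t} : Set P)) = p ^ 2) : ∃ g : P, g * t * g⁻¹ = t * x := by
  have h4 := h.four_le
  have hmem : ∀ g : P, t⁻¹ * (g * t * g⁻¹) ∈ W 2 := by
    intro g
    have : t⁻¹ * (g * t * g⁻¹) = ⁅t⁻¹, g⁆ := by simp only [commutatorElement_def]; group
    rw [this, ← h.comm_top]
    exact commutator_mem_commutator (mem_top _) (mem_top _)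
  have hcc : ∀ c, c ∈ centralizer ({t} : Set P) ↔ c * t = t * c := fun c =>
    Subgroup.mem_centralizer_singleton_iff
  let f : P ⧸ centralizer ({t} : Set P) → W 2 :=
    Quotient.lift (s := QuotientGroup.leftRel _) (fun g => ⟨t⁻¹ * (g * t * g⁻¹), hmem g⟩) (by
      intro a b hab
      have hab' : a⁻¹ * b ∈ centralizer ({t} : Set P) := QuotientGroup.leftRel_apply.mp hab
      rw [hcc] at hab'
      apply Subtype.ext
      show t⁻¹ * (a * t * a⁻¹) = t⁻¹ * (b * t * b⁻¹)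
      congr 1
      have e : b * t * b⁻¹ = a * (a⁻¹ * b * t) * (a⁻¹ * b)⁻¹ * a⁻¹ := by group
      rw [e, hab']
      group)
  have hf : ∀ g : P, f (QuotientGroup.mk g) = ⟨t⁻¹ * (g * t * g⁻¹), hmem g⟩ := fun g => rfl
  have hinj : Function.Injective f := by
    intro a b hab
    obtain ⟨a, rfl⟩ := QuotientGroup.mk_surjective a
    obtain ⟨b, rfl⟩ := QuotientGroup.mk_surjective b
    rw [hf, hf] at hab
    have h1 := congrArg Subtype.val hab
    change t⁻¹ * (a * t * a⁻¹) = t⁻¹ * (b * t * b⁻¹) at h1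
    have h2 : a * t * a⁻¹ = b * t * b⁻¹ := mul_left_cancel h1
    rw [QuotientGroup.eq, hcc]
    calc a⁻¹ * b * t = a⁻¹ * (b * t * b⁻¹) * b := by group
      _ = a⁻¹ * (a * t * a⁻¹) * b := by rw [h2]
      _ = t * (a⁻¹ * b) := by group
  have hcard : Nat.card (P ⧸ centralizer ({t} : Set P)) = Nat.card (W 2) := by
    have h1 := (centralizer ({t} : Set P)).card_mul_index
    have h2 := h.card_W (n - 2) (by omega)
    rw [show n - (n - 2) = 2 by omega] at h2
    rw [hc, h.card_group] at h1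
    rw [h2]
    change (centralizer ({t} : Set P)).index = _
    have h3 : p ^ n = p ^ 2 * p ^ (n - 2) := by rw [← pow_add]; congr 1; omega
    rw [h3] at h1
    exact Nat.eq_of_mul_eq_mul_left (pow_pos hp.out.pos 2) h1
  have hbij : Function.Bijective f := (Nat.bijective_iff_injective_and_card f).mpr ⟨hinj, hcard⟩
  obtain ⟨a, ha⟩ := hbij.2 ⟨x, hx⟩
  obtain ⟨g, rfl⟩ := QuotientGroup.mk_surjective a
  rw [hf] at ha
  have h1 := congrArg Subtype.val ha
  change t⁻¹ * (g * t * g⁻¹) = x at h1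
  exact ⟨g, by rw [← h1]; group⟩

theorem pow_notMem_of_index (h : MC P p n W) [hp : Fact p.Prime] {H : Subgroup P} (hH : H ≠ ⊤)
    (hW : W 2 ≤ H) {s : P} (hs : s ∉ H) {b : ℕ} (hb1 : 1 ≤ b) (hb2 : b ≤ p - 1) : s ^ b ∉ H := by
  intro hsb
  apply hs
  have hp2 := hp.out.two_le
  -- `s ^ p ∈ W 2`?  use the order of `s` : a `p`-power
  have hcop : Nat.Coprime b p := by
    rw [Nat.coprime_comm, Nat.Prime.coprime_iff_not_dvd hp.out]
    exact Nat.not_dvd_of_pos_of_lt (by omega) (by omega)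
  have hcard := h.card_group
  have hord : s ^ (p ^ n) = 1 := by rw [← hcard]; exact pow_card_eq_one'
  have hcop2 : Nat.Coprime b (p ^ n) := hcop.pow_right n
  have := Nat.Coprime.isCoprime hcop2
  obtain ⟨u, v, huv⟩ := this
  have h1 : s = (s ^ b) ^ u * (s ^ (p ^ n)) ^ v := by
    rw [← zpow_natCast s b, ← zpow_natCast s (p ^ n), ← zpow_mul, ← zpow_mul, ← zpow_add]
    have : (b : ℤ) * u + ((p ^ n : ℕ) : ℤ) * v = 1 := by rw [← huv]; ring
    rw [this, zpow_one]
  rw [h1, hord, one_zpow, mul_one]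
  exact zpow_mem hsb u

/-- a good element -/
theorem exists_good [Finite P] (h : MC P p n W) [hp : Fact p.Prime] (hp3 : 3 ≤ p) :
    ∃ s, s ∉ W 1 ∧ s ∉ h.Ksub (n - 2) ∧ ∀ i, 1 ≤ i → i ≤ n - 2 → s ∉ h.Ksub i := by
  have h4 := h.four_le
  obtain ⟨s, hs1, hs2, -⟩ := exists_notMem_three hp3 h.card_group (W 1) (h.Ksub (n - 2)) (W 1)
    h.W1_ne_top (h.Ksub_ne_top' (by omega) (by omega)) h.W1_ne_top
  exact ⟨s, hs1, hs2, h.notMem_Ksub hp3 hs1 hs2⟩

/-- powers of a good element are good -/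
theorem good_pow [Finite P] (h : MC P p n W) [hp : Fact p.Prime] (hp3 : 3 ≤ p) {s : P}
    (hs1 : s ∉ W 1) (hs2 : s ∉ h.Ksub (n - 2)) {b : ℕ} (hb1 : 1 ≤ b) (hb2 : b ≤ p - 1) :
    s ^ b ∉ W 1 ∧ s ^ b ∉ h.Ksub (n - 2) := by
  have h4 := h.four_le
  exact ⟨h.pow_notMem_of_index h.W1_ne_top (h.le_succ 1) hs1 hb1 hb2,
    h.pow_notMem_of_index (h.Ksub_ne_top' (by omega) (by omega)) (h.W2_le_Ksub _) hs2 hb1 hb2⟩

/-- `(s ^ b x) ^ p = s ^ (b p)` for `s` good, `x ∈ W 2`. -/
theorem mul_pow_good [Finite P] (h : MC P p n W) [hp : Fact p.Prime] (hp3 : 3 ≤ p) {t x : P}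
    (ht1 : t ∉ W 1) (ht2 : t ∉ h.Ksub (n - 2)) (hx : x ∈ W 2) : (t * x) ^ p = t ^ p := by
  have h4 := h.four_le
  have hall := h.notMem_Ksub hp3 ht1 ht2
  obtain ⟨g, hg⟩ := h.exists_conj_eq hx (h.card_centralizer_of_notMem ht1 hall)
  rw [← hg, conj_pow]
  have h1 : t ^ p ∈ W (n - 1) :=
    h.pow_mem_of_notMem (by omega) (by omega) (fun i hi1 hi2 => hall i hi1 (by omega))
  rw [← (h.center_le h1 g).eq]
  group

theorem Dl_notMem (h : MC P p n W) [hp : Fact p.Prime] {s : P}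
    (hs : ∀ i, 1 ≤ i → i ≤ n - 2 → s ∉ h.Ksub i) (l : ℕ) : ∀ {i : ℕ} {y : P}, 1 ≤ i →
    i + l < n → y ∈ W i → y ∉ W (i + 1) → (D s)^[l] y ∉ W (i + l + 1) := by
  induction l with
  | zero => intro i y _ _ _ hy'; exact hy'
  | succ l ih =>
    intro i y hi hil hy hy'
    rw [Function.iterate_succ_apply]
    have h1 : D s y ∉ W (i + 1 + 1) := by
      intro hmem
      apply hs i hi (by omega)
      have h2 : ⁅y, s⁻¹⁆ ∈ W (i + 2) := by
        rw [← commutatorElement_inv]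
        exact inv_mem hmem
      have h3 : s⁻¹ ∈ h.Ksub i := (h.mem_K_iff (by omega) hy hy' _).mpr h2
      exact (inv_mem_iff).mp h3
    have := ih (i := i + 1) (by omega) (by omega) (h.D_mem hy) h1
    rwa [show i + (l + 1) + 1 = i + 1 + l + 1 by omega]

/-- the power structure, `2 ≤ j` -/
theorem pow_mem [Finite P] (h : MC P p n W) [hp : Fact p.Prime] (hp3 : 3 ≤ p) {j : ℕ} (hj : 2 ≤ j)
    {x : P} (hx : x ∈ W j) : x ^ p ∈ W (j + p - 1) := by
  obtain ⟨s, hs1, hs2, hs⟩ := h.exists_good hp3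
  refine (h.power_formula (by omega) (s := s) hx ?_).1
  intro b hb1 hb2
  obtain ⟨g1, g2⟩ := h.good_pow hp3 hs1 hs2 hb1 hb2
  rw [h.mul_pow_good hp3 g1 g2 (h.antitone hj hx), ← pow_mul, inv_mul_cancel]
  exact one_mem _

theorem pow_notMem [Finite P] (h : MC P p n W) [hp : Fact p.Prime] (hp3 : 3 ≤ p) {j : ℕ}
    (hj : 2 ≤ j) (hjn : j + p ≤ n) {x : P} (hx : x ∈ W j) (hx' : x ∉ W (j + 1)) :
    x ^ p ∉ W (j + p) := by
  obtain ⟨s, hs1, hs2, hs⟩ := h.exists_good hp3
  intro hmem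
  have h1 := (h.power_formula (by omega) (s := s) hx (by
    intro b hb1 hb2
    obtain ⟨g1, g2⟩ := h.good_pow hp3 hs1 hs2 hb1 hb2
    rw [h.mul_pow_good hp3 g1 g2 (h.antitone hj hx), ← pow_mul, inv_mul_cancel]
    exact one_mem _)).2 hmem
  have h2 := h.Dl_notMem hs (p - 1) (i := j) (by omega) (by omega) hx hx'
  rw [show j + (p - 1) + 1 = j + p by omega] at h2
  exact h2 h1

/-- A group of maximal class and order `p ^ (p + 1)` is not of exponent `p`. -/
theorem exists_pow_ne_one [Finite P] (h : MC P p n W) [hp : Fact p.Prime] (hp3 : 3 ≤ p)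
    (hn : n = p + 1) : ∃ x : P, x ^ p ≠ 1 := by
  by_contra hcon
  push Not at hcon
  obtain ⟨s, hs1, hs2, hs⟩ := h.exists_good hp3
  obtain ⟨x, hx, hx'⟩ := h.ne_succ (i := 1) (by omega)
  have h1 := (h.power_formula le_rfl (s := s) hx (by
    intro b _ _
    rw [hcon, pow_mul, hcon, inv_one, one_mul]
    exact one_mem _)).2 (by rw [hcon]; exact one_mem _)
  have h2 := h.Dl_notMem hs (p - 1) (i := 1) le_rfl (by omega) hx hx'
  rw [show 1 + (p - 1) + 1 = 1 + p by omega] at h2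
  exact h2 h1

/-- Exceptional groups have even `n`. -/
theorem Ksub_last_of_odd [Finite P] (h : MC P p n W) [hp : Fact p.Prime] (hp3 : 3 ≤ p)
    (hodd : Odd n) : h.Ksub (n - 2) = W 1 := by
  have h4 := h.four_le
  obtain ⟨s, hs1, hs2, hs⟩ := h.exists_good hp3
  apply h.eq_W1 _ (h.Ksub_ne_top' (by omega) (by omega))
  intro a ha
  by_cases ha' : a ∈ W 2
  · exact h.W2_le_Ksub _ ha'
  -- the elements `t s a i ∈ W (i + 1)`
  have ht := h.t_mem (s := s) ha
  have ht' : ∀ i, i ≤ n - 2 → t s a i ∉ W (i + 2) := by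
    intro i
    induction i with
    | zero => intro _; exact ha'
    | succ i ih =>
      intro hi hmem
      exact hs (i + 1) (by omega) (by omega)
        ((h.mem_K_iff (by omega) (ht i) (ih (by omega)) _).mpr hmem)
  have hpos : ∀ j, 2 ≤ j → j < n - 2 → ⁅W j, W 1⁆ ≤ W (j + 2) := fun j h1 h2 =>
    h.blackburn hp3 j h1 (by omega)
  have hdeg := h.deg hpos
  -- the recursion
  have hrec : ∀ i, i + 4 ≤ n → ⁅t s a (i + 1), t s a (n - 4 - i)⁆ * ⁅t s a i, t s a (n - 3 - i)⁆ = 1 := by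
    intro i hi
    have hd := h.deriv (i := i + 1) (j := n - 4 - i + 1) (by omega) (by omega) (ht i)
      (ht (n - 4 - i)) s
    rw [show i + 1 + (n - 4 - i + 1) + 2 = n by omega, h.bot, Subgroup.mem_bot] at hd
    have h1 : ⁅t s a i, t s a (n - 4 - i)⁆ ∈ W (n - 1) := by
      have := hdeg (n - 4 - i + 1) (i + 1) (by omega) (by omega) (by omega)
        (commutator_mem_commutator (ht i) (ht (n - 4 - i)))
      rwa [show i + 1 + (n - 4 - i + 1) + 1 = n - 1 by omega] at this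
    have h2 : ⁅⁅t s a i, t s a (n - 4 - i)⁆, s⁆ = 1 :=
      (commutatorElement_eq_one_iff_commute).mpr (h.center_le h1 s)
    rw [h2, inv_one, one_mul] at hd
    have h3 : t s a (n - 3 - i) = ⁅t s a (n - 4 - i), s⁆ := by
      rw [show n - 3 - i = n - 4 - i + 1 by omega, t_succ]
    rw [h3, t_succ]
    exact hd
  obtain ⟨m, hm⟩ := hodd
  have hup : ∀ i, m - 1 ≤ i → i ≤ n - 3 → ⁅t s a i, t s a (n - 3 - i)⁆ = 1 := by
    intro i hi
    induction i, hi using Nat.le_induction with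
    | base =>
      intro _
      rw [show n - 3 - (m - 1) = m - 1 by omega, commutatorElement_self]
    | succ i hi ih =>
      intro hi2
      have h1 := hrec i (by omega)
      rw [ih (by omega), mul_one] at h1
      rwa [show n - 3 - (i + 1) = n - 4 - i by omega]
  have hlast := hup (n - 3) (by omega) le_rfl
  rw [Nat.sub_self] at hlast
  have h1 := ht (n - 3)
  have h2 := ht' (n - 3) (by omega)
  rw [show n - 3 + 1 = n - 2 by omega] at h1
  rw [show n - 3 + 2 = n - 2 + 1 by omega] at h2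
  apply (h.mem_K_iff (by omega) h1 h2 a).mpr
  change ⁅t s a (n - 3), a⁆ = 1 at hlast
  rw [hlast]
  exact one_mem _

theorem lcs_le (h : MC P p n W) [hp : Fact p.Prime] (i m : ℕ) :
    (W i).lowerCentralSeries (m + 1) ≤ W (i * (m + 2) + 1) := by
  induction m with
  | zero =>
    have : (W i).lowerCentralSeries (0 + 1) = ⁅W i, W i⁆ := rfl
    rw [this, commutator_le]
    intro a ha b hb
    have := h.comm_self ha hb
    rwa [show i * (0 + 2) + 1 = 2 * i + 1 by ring]
  | succ m ih =>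
    have : (W i).lowerCentralSeries (m + 1 + 1) = ⁅(W i).lowerCentralSeries (m + 1), W i⁆ := rfl
    rw [this]
    calc ⁅(W i).lowerCentralSeries (m + 1), W i⁆ ≤ ⁅W (i * (m + 2) + 1), W i⁆ :=
          commutator_mono ih le_rfl
      _ ≤ W (i * (m + 2) + 1 + i) := h.comm_comm _ _
      _ = W (i * (m + 1 + 2) + 1) := by congr 1; ring

/-- Groups of maximal class and order at least `p ^ (p + 3)` are not exceptional. -/
theorem Ksub_last_of_le' [Finite P] (h : MC P p n W) [hp : Fact p.Prime] (hp3 : 3 ≤ p)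
    (hn : p + 3 ≤ n) : h.Ksub (n - 2) = W 1 := by
  apply h.eq_W1 _ (h.Ksub_ne_top' (by omega) (by omega))
  intro y hy
  obtain ⟨i, hi⟩ : ∃ i, n = i + p + 1 := ⟨n - p - 1, by omega⟩
  have hi2 : 2 ≤ i := by omega
  obtain ⟨a, ha, ha'⟩ := h.ne_succ (i := i) (by omega)
  have h1 := h.pow_mem hp3 hi2 ha
  have h2 := h.pow_notMem hp3 hi2 (by omega) ha ha'
  rw [show i + p - 1 = n - 2 by omega] at h1
  rw [show i + p = n - 2 + 1 by omega] at h2
  apply (h.mem_K_iff (by omega) h1 h2 y).mpr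
  suffices ⁅a ^ p, y⁆ = 1 by rw [this]; exact one_mem _
  set c := ⁅a⁻¹, y⁆ with hc
  have hcW : c ∈ W (i + 2) :=
    h.blackburn hp3 i hi2 (by omega) (commutator_mem_commutator (inv_mem ha) hy)
  have hcp : c ^ p = 1 := by
    have := h.pow_mem hp3 (j := i + 2) (by omega) hcW
    rwa [show i + 2 + p - 1 = n by omega, h.bot, Subgroup.mem_bot] at this
  have hconj : y * a * y⁻¹ = a * c := by
    rw [hc, commutatorElement_def]; group
  obtain ⟨d, hd, hdp⟩ := hall_petrescu a c (W i) ha (h.antitone (by omega) hcW) (p - 1)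
  have hd' : ∀ k : Fin (p - 1), d k ^ (p.choose ((k : ℕ) + 2)) = 1 := by
    intro k
    have hk := k.2
    have hdW : d k ∈ W (i * ((k : ℕ) + 2) + 1) := h.lcs_le i k (hd k)
    rcases Nat.lt_or_ge ((k : ℕ) + 2) p with hkp | hkp
    · obtain ⟨q, hq⟩ := hp.out.dvd_choose_self (by omega) hkp
      have h3 : d k ∈ W (i + 2) := h.antitone (by nlinarith) hdW
      have h4 := h.pow_mem hp3 (j := i + 2) (by omega) h3
      rw [show i + 2 + p - 1 = n by omega, h.bot, Subgroup.mem_bot] at h4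
      rw [hq, pow_mul, h4, one_pow]
    · have h3 : (k : ℕ) + 2 = p := by omega
      have h5 : n ≤ i * ((k : ℕ) + 2) + 1 := by
        rw [h3, hi]
        obtain ⟨i', rfl⟩ : ∃ i', i = i' + 2 := ⟨i - 2, by omega⟩
        nlinarith
      have h4 : d k = 1 := by
        rw [← Subgroup.mem_bot, ← h.bot_of_le h5]; exact hdW
      rw [h4, one_pow]
  have hprod : (List.ofFn fun k : Fin (p - 1) => d k ^ (p.choose ((k : ℕ) + 2))).prod = 1 := by
    apply List.prod_eq_one
    intro z hz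
    rw [List.mem_ofFn] at hz
    obtain ⟨k, rfl⟩ := hz
    exact hd' k
  have h3 := hdp p (by omega)
  rw [hprod, mul_one, hcp, mul_one] at h3
  have h4 : y * a ^ p * y⁻¹ = a ^ p := by
    rw [← conj_pow, hconj, h3]
  rw [commutatorElement_eq_one_iff_mul_comm]
  calc a ^ p * y = y * a ^ p * y⁻¹ * y := by rw [h4]
    _ = y * a ^ p := by group

/-- Exceptional groups have order at most `p ^ (p + 1)`. -/
theorem Ksub_last_of_le [Finite P] (h : MC P p n W) [hp : Fact p.Prime] (hp3 : 3 ≤ p)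
    (hn : p + 2 ≤ n) : h.Ksub (n - 2) = W 1 := by
  rcases Nat.eq_or_lt_of_le hn with h1 | h1
  · apply h.Ksub_last_of_odd hp3
    rw [← h1]
    have : Odd p := hp.out.odd_of_ne_two (by omega)
    exact this.add_even (by decide)
  · exact h.Ksub_last_of_le' hp3 h1

/-- Positive degree of commutativity. -/
theorem deg_of_Ksub_last [Finite P] (h : MC P p n W) [hp : Fact p.Prime] (hp3 : 3 ≤ p)
    (hK : h.Ksub (n - 2) = W 1) {i j : ℕ} (hi : 1 ≤ i) (hj : 1 ≤ j) :
    ⁅W i, W j⁆ ≤ W (i + j + 1) := by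
  have h4 := h.four_le
  rcases Nat.lt_or_ge (i + j) n with h1 | h1
  · refine h.deg (k := n - 1) ?_ j i hi hj (by omega)
    intro m hm1 hm2
    rcases Nat.lt_or_ge m (n - 2) with h3 | h3
    · exact h.blackburn hp3 m hm1 (by omega)
    · have : m = n - 2 := by omega
      subst this
      rw [commutator_le]
      intro a ha b hb
      rw [← hK] at hb
      exact hb a ha
  · refine (h.comm_comm j i).trans ?_
    rw [h.bot_of_le h1]
    exact bot_le

/-- All two-step centralizers coincide if `p + 2 ≤ n`. -/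
theorem Ksub_eq_of_le [Finite P] (h : MC P p n W) [hp : Fact p.Prime] (hp3 : 3 ≤ p)
    (hn : p + 2 ≤ n) {i : ℕ} (h1 : 1 ≤ i) (h2 : i + 2 ≤ n) : h.Ksub i = W 1 := by
  rcases Nat.lt_or_ge i (n - 2) with h3 | h3
  · exact h.Ksub_eq hp3 h1 (by omega)
  · have : i = n - 2 := by omega
    rw [this]
    exact h.Ksub_last_of_le hp3 hn

/-- the hypothesis of the power formula for `j = 1` -/
theorem mul_pow_one [Finite P] (h : MC P p n W) [hp : Fact p.Prime] (hp3 : 3 ≤ p)
    (hn : p + 2 ≤ n) {s x : P} (hs1 : s ∉ W 1) (hx : x ∈ W 1) (b : ℕ) (hb1 : 1 ≤ b)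
    (hb2 : b ≤ p - 1) : (s ^ (b * p))⁻¹ * (s ^ b * x) ^ p ∈ W (1 + p) := by
  have key : ∀ t : P, t ∉ W 1 → t ^ p ∈ W (1 + p) := by
    intro t ht
    have h1 : t ^ p ∈ W (n - 1) := h.pow_mem_of_notMem (by omega) (by omega) (by
      intro i hi1 hi2
      rw [h.Ksub_eq_of_le hp3 hn hi1 (by omega)]
      exact ht)
    exact h.antitone (by omega) h1
  have hsb : s ^ b ∉ W 1 := h.pow_notMem_of_index h.W1_ne_top (h.le_succ 1) hs1 hb1 hb2
  refine mul_mem (inv_mem ?_) (key _ ?_)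
  · rw [pow_mul]; exact key _ hsb
  · intro hmem
    apply hsb
    have := mul_mem hmem (inv_mem hx)
    rwa [mul_inv_cancel_right] at this

/-- the power structure, `1 ≤ j`, `p + 2 ≤ n` -/
theorem pow_mem_one [Finite P] (h : MC P p n W) [hp : Fact p.Prime] (hp3 : 3 ≤ p)
    (hn : p + 2 ≤ n) {j : ℕ} (hj : 1 ≤ j) {x : P} (hx : x ∈ W j) : x ^ p ∈ W (j + p - 1) := by
  rcases Nat.eq_or_lt_of_le hj with h1 | h1
  · obtain ⟨s, hs1, hs2, hs⟩ := h.exists_good hp3
    rw [← h1] at hx ⊢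
    exact (h.power_formula le_rfl (s := s) hx (h.mul_pow_one hp3 hn hs1 hx)).1
  · exact h.pow_mem hp3 h1 hx

theorem pow_notMem_one [Finite P] (h : MC P p n W) [hp : Fact p.Prime] (hp3 : 3 ≤ p)
    (hn : p + 2 ≤ n) {j : ℕ} (hj : 1 ≤ j) (hjn : j + p ≤ n) {x : P} (hx : x ∈ W j)
    (hx' : x ∉ W (j + 1)) : x ^ p ∉ W (j + p) := by
  rcases Nat.eq_or_lt_of_le hj with h1 | h1
  · subst h1
    obtain ⟨s, hs1, hs2, hs⟩ := h.exists_good hp3
    intro hmem
    have h1 := (h.power_formula le_rfl (s := s) hx (h.mul_pow_one hp3 hn hs1 hx)).2 hmem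
    have h2 := h.Dl_notMem hs (p - 1) (i := 1) le_rfl (by omega) hx hx'
    rw [show 1 + (p - 1) + 1 = 1 + p by omega] at h2
    exact h2 h1
  · exact h.pow_notMem hp3 h1 hjn hx hx'

end MC

end Cfsg.Agent.H467.MaxClass
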