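import Cfsg.Agent.H467.MaxClassPower2

/-!
# Degree analysis in `p`-groups of maximal class (helper467; block D1-D4 of the project S5267 of helper786)

`P` a `p`-group of maximal class with the chain `W`.

* `MC.eq_W_of_normal`, `MC.exists_eq_W` : the normal subgroups inside `W 1` are the `W m`;
* `MC.D1` (`deg_uniform`) : if `W t` centralises `W a` and `W (t - 1)` does not then `[W i, W (t - 1)] = W (i + κ)` for
  all `i ≥ a`, and the commutators of generators have exactly this index;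
* `MC.D2` (`transvection`), `MC.D3` (`deg_next_cases`) : the action of `W (t - 2)`;
* `MC.D4` (`pairing`) : the perfect pairing in the exceptional case, `MC.deg_of_add_le` : positive degree below it;
* `MC.deriv_mk`, `MC.mk_comm_pow_mul`, `MC.pow_mk_eq`, `MC.exists_pow`, `MC.t_mem'`, `MC.t_notMem'` : coordinates.
-/

set_option autoImplicit false

namespace Cfsg.Agent.H467.MaxClass

open Subgroup
open scoped commutatorElement

universe u

variable {P : Type u} [Group P]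

namespace MC

variable {p n : ℕ} {W : ℕ → Subgroup P}

/-- `W i ≤ W j` forces `j ≤ i` below the bottom. -/
theorem le_iff (h : MC P p n W) [hp : Fact p.Prime] {i j : ℕ} (hi : i < n) : W i ≤ W j ↔ j ≤ i := by
  constructor
  · intro hle
    by_contra hlt
    push Not at hlt
    obtain ⟨a, ha, ha'⟩ := h.ne_succ hi
    exact ha' (h.antitone (Nat.succ_le_of_lt hlt) (hle ha))
  · intro hji
    exact h.antitone hji

theorem W_inj (h : MC P p n W) [hp : Fact p.Prime] {i j : ℕ} (hi : i < n) (hj : j ≤ n) (he : W i = W j) : i = j := by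
  have h1 : j ≤ i := (h.le_iff hi).1 he.le
  have h2 : i ≤ j := (h.le_iff (by omega)).1 he.ge
  omega

theorem ne_bot (h : MC P p n W) [hp : Fact p.Prime] {i : ℕ} (hi : i < n) : W i ≠ ⊥ := by
  intro he
  obtain ⟨a, ha, ha'⟩ := h.ne_succ hi
  rw [he, mem_bot] at ha
  exact ha' (ha ▸ one_mem _)

/-- `W i = ⟨x⟩ W (i + 1)` -/
theorem le_of_mem (h : MC P p n W) [hp : Fact p.Prime] {i : ℕ} (hi : i < n) {x : P} (hx : x ∈ W i) (hx' : x ∉ W (i + 1))
    {N : Subgroup P} (hxN : x ∈ N) (hN : W (i + 1) ≤ N) : W i ≤ N := by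
  intro b hb
  obtain ⟨k, hk⟩ := h.exists_zpow hi hx hx' hb
  have h1 := mul_mem (zpow_mem hxN k) (hN hk)
  rwa [mul_inv_cancel_left] at h1

/-- `{w | ⁅w, z⁆ ∈ N}` -/
def comL (N : Subgroup P) [hN : N.Normal] (z : P) : Subgroup P where
  carrier := {w | ⁅w, z⁆ ∈ N}
  one_mem' := by simp
  mul_mem' := by
    intro x y hx hy
    have e : ⁅x * y, z⁆ = x * ⁅y, z⁆ * x⁻¹ * ⁅x, z⁆ := by simp only [commutatorElement_def]; group
    show ⁅x * y, z⁆ ∈ N
    rw [e]
    exact mul_mem (hN.conj_mem _ hy _) hx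
  inv_mem' := by
    intro x hx
    have e : ⁅x⁻¹, z⁆ = x⁻¹ * ⁅x, z⁆⁻¹ * x⁻¹⁻¹ := by simp only [commutatorElement_def]; group
    show ⁅x⁻¹, z⁆ ∈ N
    rw [e]
    exact hN.conj_mem _ (inv_mem hx) _

theorem mem_comL {N : Subgroup P} [N.Normal] {z w : P} : w ∈ comL N z ↔ ⁅w, z⁆ ∈ N := Iff.rfl

/-- A normal subgroup inside `W i` and not inside `W (i + 1)` is `W i`, for `i ≥ 1`. -/
theorem eq_W_of_normal (h : MC P p n W) [hp : Fact p.Prime] {N : Subgroup P} (hN : N.Normal) {i : ℕ} (hi : 1 ≤ i)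
    (hle : N ≤ W i) (hnle : ¬ N ≤ W (i + 1)) : N = W i := by
  refine le_antisymm hle ?_
  obtain ⟨x, hxN, hx'⟩ := SetLike.not_le_iff_exists.1 hnle
  have hx := hle hxN
  have hin : i < n := by
    by_contra hcon
    push Not at hcon
    rw [h.bot_of_le hcon, mem_bot] at hx
    exact hx' (hx ▸ one_mem _)
  -- `W j ≤ N ⊔ W (j + 1)`
  have key : ∀ d, W (i + d) ≤ N ⊔ W (i + d + 1) := by
    intro d
    induction d with
    | zero => exact h.le_of_mem hin hx hx' (mem_sup_left hxN) le_sup_right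
    | succ d ih =>
      have h1 : W (i + d + 1) = ⁅W (i + d), (⊤ : Subgroup P)⁆ := (h.comm_eq (by omega)).symm
      have h2 : ⁅W (i + d), (⊤ : Subgroup P)⁆ ≤ ⁅N ⊔ W (i + d + 1), (⊤ : Subgroup P)⁆ := commutator_mono ih le_rfl
      have hn2 := h.normal (i + d + 1)
      have h3 : ⁅N ⊔ W (i + d + 1), (⊤ : Subgroup P)⁆ ≤ N ⊔ W (i + d + 2) := by
        have hnN : (N ⊔ W (i + d + 2)).Normal := by
          have := h.normal (i + d + 2)
          infer_instance
        rw [commutator_le]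
        intro y hy x _
        have h5 : N ⊔ W (i + d + 1) ≤ comL (N ⊔ W (i + d + 2)) x := by
          refine sup_le (fun w hw => ?_) (fun w hw => ?_)
          · have h6 : ⁅w, x⁆ ∈ N := by
              rw [commutatorElement_def, mul_assoc, mul_assoc, ← mul_assoc x]
              exact mul_mem hw (hN.conj_mem _ (inv_mem hw) _)
            exact mem_sup_left h6
          · exact mem_sup_right (h.comm_mem hw)
        exact h5 hy
      rw [show i + (d + 1) = i + d + 1 by omega, show i + d + 1 + 1 = i + d + 2 by omega]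
      exact (h1.le.trans h2).trans h3
  have key2 : ∀ d, W i ≤ N ⊔ W (i + d) := by
    intro d
    induction d with
    | zero => exact le_sup_right
    | succ d ih => exact ih.trans (sup_le le_sup_left (key d))
  have h3 := key2 (n - i)
  rwa [h.bot_of_le (by omega : n ≤ i + (n - i)), sup_bot_eq] at h3

/-- The normal subgroups inside `W 1` are the `W m`. -/
theorem exists_eq_W (h : MC P p n W) [hp : Fact p.Prime] {N : Subgroup P} (hN : N.Normal) {i : ℕ} (hi : 1 ≤ i)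
    (hle : N ≤ W i) (hin : i ≤ n) : ∃ m, i ≤ m ∧ m ≤ n ∧ N = W m := by
  obtain ⟨d, hd⟩ : ∃ d, n = i + d := ⟨n - i, by omega⟩
  induction d generalizing i with
  | zero =>
    refine ⟨i, le_rfl, hin, le_antisymm hle ?_⟩
    rw [h.bot_of_le (by omega)]; exact bot_le
  | succ d ih =>
    by_cases h1 : N ≤ W (i + 1)
    · obtain ⟨m, hm1, hm2, hm3⟩ := ih (by omega) h1 (by omega) (by omega)
      exact ⟨m, by omega, hm2, hm3⟩
    · exact ⟨i, le_rfl, hin, h.eq_W_of_normal hN hi hle h1⟩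

/-- One generator of `W i`, one of `W r`. -/
theorem comm_le_of_gen (h : MC P p n W) [hp : Fact p.Prime] {i r : ℕ} (hi : i < n) (hr : r < n) {v z : P}
    (hv : v ∈ W i) (hv' : v ∉ W (i + 1)) (hz : z ∈ W r) (hz' : z ∉ W (r + 1)) {N : Subgroup P} (hN : N.Normal)
    (hvz : ⁅v, z⁆ ∈ N) (h1 : ⁅W (i + 1), W r⁆ ≤ N) (h2 : ⁅W i, W (r + 1)⁆ ≤ N) : ⁅W i, W r⁆ ≤ N := by
  have h3 : ∀ w ∈ W i, ⁅w, z⁆ ∈ N := by
    have : W i ≤ comL N z :=
      h.le_of_mem hi hv hv' hvz fun w hw => h1 (commutator_mem_commutator hw hz)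
    exact fun w hw => this hw
  rw [commutator_le]
  intro w hw y hy
  have : W r ≤ comL N w := by
    refine h.le_of_mem hr hz hz' ?_ fun y hy => ?_
    · rw [mem_comL, ← commutatorElement_inv]
      exact inv_mem (h3 w hw)
    · rw [mem_comL, ← commutatorElement_inv]
      exact inv_mem (h2 (commutator_mem_commutator hw hy))
  have h4 := this hy
  rw [mem_comL, ← commutatorElement_inv] at h4
  exact inv_mem_iff.1 h4

/-- **D1.** -/
theorem deg_uniform (h : MC P p n W) [hp : Fact p.Prime] {a r : ℕ} (ha : 1 ≤ a) (hr : 1 ≤ r)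
    (hbot : ⁅W a, W (r + 1)⁆ = ⊥) (hne : ⁅W a, W r⁆ ≠ ⊥) :
    ∃ κ, r ≤ κ ∧ a + κ ≤ n - 1 ∧ (∀ i, a ≤ i → ⁅W i, W r⁆ = W (i + κ)) ∧
      (∀ i, a ≤ i → i + κ ≤ n - 1 → ∀ v ∈ W i, v ∉ W (i + 1) → ∀ z ∈ W r, z ∉ W (r + 1) →
        ⁅v, z⁆ ∉ W (i + κ + 1)) := by
  have h4 := h.four_le
  have hnr := h.normal r
  have hna := h.normal a
  have han : a ≤ n := by
    by_contra hcon
    apply hne
    rw [h.bot_of_le (by omega : n ≤ a), commutator_bot_left]
  obtain ⟨m, hm1, hm2, hm3⟩ := h.exists_eq_W (N := ⁅W a, W r⁆) (commutator_normal _ _) ha (commutator_le_left _ _) han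
  have hmn : m < n := by
    rcases Nat.lt_or_ge m n with h1 | h1
    · exact h1
    · rw [hm3, h.bot_of_le h1] at hne
      exact absurd rfl hne
  obtain ⟨κ, hκ⟩ : ∃ κ, m = a + κ := ⟨m - a, by omega⟩
  -- the degrees
  have hall : ∀ d, ⁅W (a + d), W r⁆ = W (a + d + κ) := by
    intro d
    induction d with
    | zero => rw [add_zero, hm3, hκ]
    | succ d ih =>
      have hn1 := h.normal (a + d)
      have hn2 := h.normal (a + d + 1)
      have e1 : ⁅W (a + d), (⊤ : Subgroup P)⁆ = W (a + d + 1) := h.comm_eq (by omega)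
      have e2 : ⁅W (a + d + κ), (⊤ : Subgroup P)⁆ = W (a + d + κ + 1) := h.comm_eq (by omega)
      have hz : ⁅W (r + 1), W (a + d)⁆ = ⊥ := by
        rw [commutator_comm, eq_bot_iff, ← hbot]
        exact commutator_mono (h.antitone (by omega)) le_rfl
      have hr1 : ⁅(⊤ : Subgroup P), W r⁆ = W (r + 1) := by rw [commutator_comm]; exact h.comm_eq hr
      have hr2 : ⁅W r, (⊤ : Subgroup P)⁆ = W (r + 1) := h.comm_eq hr
      rw [show a + (d + 1) = a + d + 1 by omega, show a + d + 1 + κ = a + d + κ + 1 by omega]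
      apply le_antisymm
      · rw [← e1]
        refine three_le (h.normal _) ?_ ?_
        · rw [hr1, hz]; exact bot_le
        · rw [commutator_comm (W r), ih, e2]
      · rw [← e2, ← ih]
        refine three_le (commutator_normal _ _) ?_ ?_
        · rw [hr2, hz]; exact bot_le
        · rw [commutator_comm (⊤ : Subgroup P), e1]
  have hall' : ∀ i, a ≤ i → ⁅W i, W r⁆ = W (i + κ) := by
    intro i hi
    obtain ⟨d, rfl⟩ := Nat.exists_eq_add_of_le hi
    exact hall d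
  refine ⟨κ, ?_, by omega, hall', ?_⟩
  · have h1 : W (a + κ) ≤ W (a + r) := by rw [← hall' a le_rfl]; exact h.comm_comm _ _
    have := (h.le_iff (by omega)).1 h1
    omega
  · intro i hi hin v hv hv' z hz hz' hmem
    have hin' : i < n := by omega
    have hrn : r < n := by
      by_contra hcon
      apply hne
      rw [h.bot_of_le (by omega : n ≤ r), commutator_bot_right]
    have hnM := h.normal (i + κ + 1)
    -- `W i` commutes with `W r` modulo `M`
    have hle : ⁅W i, W r⁆ ≤ W (i + κ + 1) := by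
      refine h.comm_le_of_gen hin' hrn hv hv' hz hz' hnM hmem ?_ ?_
      · rw [show i + κ + 1 = (i + 1) + κ by omega, ← hall' (i + 1) (by omega)]
      · refine le_trans (commutator_mono (h.antitone hi) le_rfl) ?_
        rw [hbot]; exact bot_le
    rw [hall' i hi] at hle
    have := (h.le_iff (by omega)).1 hle
    omega

/-- Positive degree below the last level, without any hypothesis. -/
theorem deg_of_add_le [Finite P] (h : MC P p n W) [hp : Fact p.Prime] (hp3 : 3 ≤ p) {i j : ℕ} (hi : 1 ≤ i)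
    (hj : 1 ≤ j) (hij : i + j ≤ n - 2) : ⁅W i, W j⁆ ≤ W (i + j + 1) := by
  have h4 := h.four_le
  refine h.deg (k := n - 2) (fun l h2 hl => h.blackburn hp3 l h2 (by omega)) j i hi hj hij

theorem last_comm_ne_bot [Finite P] (h : MC P p n W) [hp : Fact p.Prime] (hK : h.Ksub (n - 2) ≠ W 1) :
    ⁅W (n - 2), W 1⁆ ≠ ⊥ := by
  have h4 := h.four_le
  intro hb
  apply hK
  apply h.eq_W1
  · intro y hy w hw
    have : ⁅w, y⁆ ∈ ⁅W (n - 2), W 1⁆ := commutator_mem_commutator hw hy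
    rw [hb, mem_bot] at this
    rw [this]; exact one_mem _
  · exact h.Ksub_ne_top' (by omega) (by omega)

/-- **D4.** The perfect pairing of the exceptional case: subgroups. -/
theorem pairing_ne_bot [Finite P] (h : MC P p n W) [hp : Fact p.Prime] (hp3 : 3 ≤ p) (hK : h.Ksub (n - 2) ≠ W 1)
    {i j : ℕ} (hi : 1 ≤ i) (hj : 1 ≤ j) (hij : i + j = n - 1) : ⁅W i, W j⁆ ≠ ⊥ := by
  have h4 := h.four_le
  induction j generalizing i with
  | zero => omega
  | succ j ih =>
    rcases Nat.eq_zero_or_pos j with h0 | h0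
    · subst h0
      have : i = n - 2 := by omega
      rw [this]
      exact h.last_comm_ne_bot hK
    · intro hb
      refine ih (i := i + 1) (by omega) h0 (by omega) ?_
      rw [eq_bot_iff, ← hb, ← h.comm_eq hi]
      have hn1 := h.normal i
      have hn2 := h.normal (j + 1)
      refine three_le (commutator_normal _ _) ?_ ?_
      · rw [commutator_comm (⊤ : Subgroup P), h.comm_eq h0, commutator_comm]
      · rw [commutator_comm (W j)]
        refine le_trans (commutator_mono (h.deg_of_add_le hp3 hi h0 (by omega)) le_rfl) ?_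
        refine le_trans (h.comm_le _) ?_
        rw [h.bot_of_le (by omega)]
        exact bot_le

/-- **D4.** The perfect pairing of the exceptional case: elements. -/
theorem pairing [Finite P] (h : MC P p n W) [hp : Fact p.Prime] (hp3 : 3 ≤ p) (hK : h.Ksub (n - 2) ≠ W 1)
    {i j : ℕ} (hi : 1 ≤ i) (hj : 1 ≤ j) (hij : i + j = n - 1) {v s : P} (hv : v ∈ W i) (hv' : v ∉ W (i + 1))
    (hs : s ∈ W j) (hs' : s ∉ W (j + 1)) : ⁅v, s⁆ ≠ 1 := by
  have h4 := h.four_le
  intro h1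
  apply h.pairing_ne_bot hp3 hK hi hj hij
  rw [eq_bot_iff]
  refine h.comm_le_of_gen (by omega) (by omega) hv hv' hs hs' (by infer_instance) (by rw [h1]; exact one_mem _) ?_ ?_
  · exact (h.comm_comm _ _).trans (h.bot_of_le (by omega)).le
  · exact (h.comm_comm _ _).trans (h.bot_of_le (by omega)).le

/-! ### Coefficients -/

/-- generation by natural powers -/
theorem exists_pow (h : MC P p n W) [hp : Fact p.Prime] {i : ℕ} (hi : i < n) {a : P}
    (ha : a ∈ W i) (ha' : a ∉ W (i + 1)) {b : P} (hb : b ∈ W i) :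
    ∃ k : ℕ, ∃ w ∈ W (i + 1), b = a ^ k * w := by
  obtain ⟨k, hk⟩ := h.exists_zpow hi ha ha' hb
  have hp0 : (0 : ℤ) < p := by exact_mod_cast hp.out.pos
  obtain ⟨l, hl⟩ : ∃ l : ℕ, (l : ℤ) = k % p := ⟨(k % p).toNat, Int.toNat_of_nonneg (Int.emod_nonneg _ hp0.ne')⟩
  refine ⟨l, (a ^ l)⁻¹ * b, ?_, by group⟩
  have h1 : (a ^ l)⁻¹ * b = (a ^ p) ^ (k / p) * ((a ^ k)⁻¹ * b) := by
    have h2 : k = l + p * (k / p) := by rw [hl]; exact (Int.emod_add_mul_ediv k p).symm
    have h3 : a ^ k = a ^ l * (a ^ p) ^ (k / p) := by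
      conv_lhs => rw [h2]
      rw [zpow_add, zpow_natCast, zpow_mul, zpow_natCast]
    have h4 : (a ^ p) ^ (k / p) * (a ^ l)⁻¹ = (a ^ l)⁻¹ * (a ^ p) ^ (k / p) := by
      have : Commute (a ^ p) (a ^ l) := (Commute.refl a).pow_pow _ _
      exact ((this.zpow_left _).inv_right).eq
    rw [h3]
    simp only [mul_inv_rev]
    rw [mul_assoc, ← mul_assoc ((a ^ p) ^ (k / ↑p)), mul_inv_cancel, one_mul]
  rw [h1]
  exact mul_mem (zpow_mem (h.pow_p_mem ha) _) hk

/-- the order of a generator modulo the next term -/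
theorem pow_mk_eq (h : MC P p n W) [hp : Fact p.Prime] {i : ℕ} {a : P} (ha : a ∈ W i) (ha' : a ∉ W (i + 1)) {k l : ℕ}
    (he : haveI := h.normal (i + 1); QuotientGroup.mk' (W (i + 1)) a ^ k = QuotientGroup.mk' (W (i + 1)) a ^ l) :
    k ≡ l [MOD p] := by
  have hn := h.normal (i + 1)
  have h1 : orderOf (QuotientGroup.mk' (W (i + 1)) a) = p := by
    apply orderOf_eq_prime
    · rw [← map_pow, QuotientGroup.mk'_apply, QuotientGroup.eq_one_iff]
      exact h.pow_p_mem ha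
    · rwa [QuotientGroup.mk'_apply, Ne, QuotientGroup.eq_one_iff]
  rw [← h1]
  exact pow_eq_pow_iff_modEq.1 he

/-- commutators are additive modulo the next term -/
theorem mk_comm_pow_mul (h : MC P p n W) {m : ℕ} {x w z : P} (hx : ⁅x, z⁆ ∈ W m) (hw : ⁅w, z⁆ ∈ W (m + 1)) (g : ℕ) :
    haveI := h.normal (m + 1)
    QuotientGroup.mk' (W (m + 1)) ⁅x ^ g * w, z⁆ = QuotientGroup.mk' (W (m + 1)) ⁅x, z⁆ ^ g := by
  have hn := h.normal (m + 1)
  set q := QuotientGroup.mk' (W (m + 1)) with hq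
  have h0 : ∀ y ∈ W (m + 1), q y = 1 := fun y hy => (QuotientGroup.eq_one_iff y).2 hy
  have hcent : ∀ y : P ⧸ W (m + 1), Commute ⁅q x, q z⁆ y := by
    intro y
    obtain ⟨y, rfl⟩ := QuotientGroup.mk'_surjective _ y
    rw [← hq, ← map_commutatorElement, ← commutatorElement_eq_one_iff_commute, ← map_commutatorElement]
    exact h0 _ (h.comm_mem hx)
  have hw1 : ⁅q w, q z⁆ = 1 := by rw [← map_commutatorElement]; exact h0 _ hw
  rw [map_commutatorElement, map_commutatorElement, map_mul, map_pow, ← comm_pow_left hcent g]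
  have e : ⁅q x ^ g * q w, q z⁆ = q x ^ g * ⁅q w, q z⁆ * (q x ^ g)⁻¹ * ⁅q x ^ g, q z⁆ := by
    simp only [commutatorElement_def]; group
  rw [e, hw1]
  group

/-- the elements `⁅…⁅a, s⁆…, s⁆` -/
theorem t_mem' (h : MC P p n W) {s a : P} {i : ℕ} (ha : a ∈ W i) (j : ℕ) : t s a j ∈ W (i + j) := by
  induction j with
  | zero => exact ha
  | succ j ih => exact h.comm_mem ih

theorem t_notMem' (h : MC P p n W) [hp : Fact p.Prime] {s a : P} {i : ℕ} (hi : 1 ≤ i) (ha : a ∈ W i)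
    (ha' : a ∉ W (i + 1)) (hs : ∀ l, 1 ≤ l → l ≤ n - 2 → s ∉ h.Ksub l) (j : ℕ) (hij : i + j ≤ n - 1) :
    t s a j ∉ W (i + j + 1) := by
  have h4 := h.four_le
  induction j with
  | zero => exact ha'
  | succ j ih =>
    intro hmem
    have h1 := (h.mem_K_iff (i := i + j) (by omega) (h.t_mem' ha j) (ih (by omega)) s).2
      (by rw [t_succ] at hmem; exact hmem)
    exact hs (i + j) (by omega) (by omega) h1

/-- The derivation rule modulo a term of the chain. -/
theorem deriv_mk (h : MC P p n W) {m : ℕ} {u v s : P} (c1 : ⁅⁅u, s⁆, ⁅v, s⁆⁆ ∈ W (m + 1)) (c2 : ⁅u, ⁅v, s⁆⁆ ∈ W m)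
    (c3 : ⁅⁅u, s⁆, v⁆ ∈ W m) (c4 : ⁅⁅u, v⁆, ⁅u, s⁆⁆ ∈ W (m + 1)) (c5 : ⁅⁅u, v⁆, ⁅v, s⁆⁆ ∈ W (m + 1)) :
    haveI := h.normal (m + 1)
    QuotientGroup.mk' (W (m + 1)) ⁅⁅u, v⁆, s⁆ =
      QuotientGroup.mk' (W (m + 1)) ⁅⁅u, s⁆, v⁆ * QuotientGroup.mk' (W (m + 1)) ⁅u, ⁅v, s⁆⁆ := by
  have hn := h.normal (m + 1)
  set q := QuotientGroup.mk' (W (m + 1)) with hq
  have h0 : ∀ y ∈ W (m + 1), q y = 1 := fun y hy => (QuotientGroup.eq_one_iff y).2 hy
  have hc : ∀ x y : P, ⁅x, y⁆ ∈ W (m + 1) → Commute (q x) (q y) := by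
    intro x y hxy
    rw [← commutatorElement_eq_one_iff_commute, ← map_commutatorElement]
    exact h0 _ hxy
  have hz : ∀ x : P, x ∈ W m → ∀ y, Commute (q x) y := by
    intro x hx y
    obtain ⟨y, rfl⟩ := QuotientGroup.mk'_surjective _ y
    exact hc _ _ (h.comm_mem hx)
  have e := deriv_one (u := q u) (v := q v) (s := q s)
    (by rw [← map_commutatorElement, ← map_commutatorElement]; exact hc _ _ c1)
    (by rw [← map_commutatorElement, ← map_commutatorElement]; exact hz _ c2)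
    (by rw [← map_commutatorElement, ← map_commutatorElement]; exact hz _ c3)
    (by rw [← map_commutatorElement, ← map_commutatorElement]; exact hc _ _ c4)
    (by rw [← map_commutatorElement, ← map_commutatorElement]; exact hc _ _ c5)
  simpa only [← map_commutatorElement] using e

/-- The degree of the next term: it is smaller than `κ - 1` and uniform, or at least `κ - 1`. -/
theorem deg_next (h : MC P p n W) [hp : Fact p.Prime] {a r k : ℕ} (ha : 1 ≤ a) (hr : 1 ≤ r)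
    (hκ : ∀ i, a ≤ i → ⁅W i, W (r + 1)⁆ = W (i + k + 1)) (hak : a + k + 1 ≤ n - 1) :
    (∀ i, a ≤ i → ⁅W i, W r⁆ ≤ W (i + k)) ∨
      ∃ d, r ≤ d ∧ d < k ∧ (∀ i, a ≤ i → ⁅W i, W r⁆ = W (i + d)) ∧
        (∀ i, a ≤ i → i + d ≤ n - 1 → ∀ v ∈ W i, v ∉ W (i + 1) → ∀ z ∈ W r, z ∉ W (r + 1) → ⁅v, z⁆ ∉ W (i + d + 1)) := by
  have h4 := h.four_le
  have hna := h.normal a
  have hnr := h.normal r
  -- the relations between consecutive degrees
  have h1 : ∀ i, a ≤ i → ∀ m, ⁅W i, W r⁆ ≤ W m → ⁅W (i + 1), W r⁆ ≤ W (i + k + 1) ⊔ W (m + 1) := by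
    intro i hi m hm
    rw [← h.comm_eq (by omega : 1 ≤ i)]
    have hn1 := h.normal (i + k + 1)
    have hn2 := h.normal (m + 1)
    refine three_le (by infer_instance) ?_ ?_
    · rw [commutator_comm (⊤ : Subgroup P), h.comm_eq hr, commutator_comm, hκ i hi]
      exact le_sup_left
    · rw [commutator_comm (W r)]
      exact le_sup_of_le_right ((commutator_mono hm le_rfl).trans (h.comm_le _))
  have h2 : ∀ i, a ≤ i → ⁅⁅W i, W r⁆, (⊤ : Subgroup P)⁆ ≤ W (i + k + 1) ⊔ ⁅W (i + 1), W r⁆ := by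
    intro i hi
    have hn1 := h.normal (i + k + 1)
    have hn2 := h.normal (i + 1)
    refine three_le (by infer_instance) ?_ ?_
    · rw [h.comm_eq hr, commutator_comm, hκ i hi]
      exact le_sup_left
    · rw [commutator_comm (⊤ : Subgroup P), h.comm_eq (by omega : 1 ≤ i)]
      exact le_sup_right
  obtain ⟨m, hm1, hm2, hm3⟩ := h.exists_eq_W (N := ⁅W a, W r⁆) (commutator_normal _ _) ha (commutator_le_left _ _)
    (by omega)
  rcases Nat.lt_or_ge m (a + k) with hlt | hge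
  · right
    obtain ⟨d, hd⟩ : ∃ d, m = a + d := ⟨m - a, by omega⟩
    have hall : ∀ e, ⁅W (a + e), W r⁆ = W (a + e + d) := by
      intro e
      induction e with
      | zero => rw [add_zero, hm3, hd]
      | succ e ih =>
        have h5 := h1 (a + e) (by omega) _ ih.le
        have h6 := h2 (a + e) (by omega)
        rw [ih, h.comm_eq (by omega)] at h6
        rw [show a + (e + 1) = a + e + 1 by omega, show a + e + 1 + d = a + e + d + 1 by omega]
        have h7 : ⁅W (a + e + 1), W r⁆ ≤ W (a + e + d + 1) :=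
          h5.trans (sup_le (h.antitone (by omega)) le_rfl)
        rcases Nat.lt_or_ge (a + e + d + 1) n with h8 | h8
        · have hn1 := h.normal (a + e + 1)
          refine h.eq_W_of_normal (commutator_normal _ _) (by omega) h7 ?_
          intro h9
          have h10 := h6.trans (sup_le (h.antitone (by omega : a + e + d + 1 + 1 ≤ a + e + k + 1)) h9)
          have := (h.le_iff h8).1 h10
          omega
        · refine le_antisymm h7 ?_
          rw [h.bot_of_le h8]; exact bot_le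
    have hall' : ∀ i, a ≤ i → ⁅W i, W r⁆ = W (i + d) := by
      intro i hi
      obtain ⟨e, rfl⟩ := Nat.exists_eq_add_of_le hi
      exact hall e
    refine ⟨d, ?_, by omega, hall', ?_⟩
    · have h5 : W (a + d) ≤ W (a + r) := by rw [← hall' a le_rfl]; exact h.comm_comm _ _
      have := (h.le_iff (by omega)).1 h5
      omega
    · intro i hi hin v hv hv' z hz hz' hmem
      have hrn : r < n := by
        by_contra hcon
        have h5 := hall' i hi
        rw [h.bot_of_le (by omega : n ≤ r), commutator_bot_right] at h5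
        exact h.ne_bot (by omega) h5.symm
      have h5 : ⁅W i, W r⁆ ≤ W (i + d + 1) := by
        refine h.comm_le_of_gen (by omega) hrn hv hv' hz hz' (h.normal _) hmem ?_ ?_
        · rw [hall' (i + 1) (by omega), show i + 1 + d = i + d + 1 by omega]
        · rw [hκ i hi]; exact h.antitone (by omega)
      rw [hall' i hi] at h5
      have := (h.le_iff (by omega)).1 h5
      omega
  · left
    have hall : ∀ e, ⁅W (a + e), W r⁆ ≤ W (a + e + k) := by
      intro e
      induction e with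
      | zero => rw [add_zero, hm3]; exact h.antitone hge
      | succ e ih =>
        refine (h1 (a + e) (by omega) _ ih).trans (sup_le (h.antitone (by omega)) (h.antitone (by omega)))
    intro i hi
    obtain ⟨e, rfl⟩ := Nat.exists_eq_add_of_le hi
    exact hall e

/-- The coefficient function in the case of degree at least `κ - 1 = k`. -/
theorem coeff [Finite P] (h : MC P p n W) [hp : Fact p.Prime] (hp3 : 3 ≤ p) {a r k : ℕ} (ha : 1 ≤ a) (hr : 1 ≤ r)
    (hbot : ⁅W a, W (r + 2)⁆ = ⊥) (hκ : ∀ i, a ≤ i → ⁅W i, W (r + 1)⁆ = W (i + k + 1)) (hak : a + k + 1 ≤ n - 1)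
    (hrk : r ≤ k) (hB : ∀ i, a ≤ i → ⁅W i, W r⁆ ≤ W (i + k)) {z1 : P} (hz1 : z1 ∈ W r) (hz1' : z1 ∉ W (r + 1))
    (hne : ∀ i, a ≤ i → i + k + 1 ≤ n - 1 → ∀ v ∈ W i, v ∉ W (i + 1) → ∀ z ∈ W (r + 1), z ∉ W (r + 2) →
        ⁅v, z⁆ ∉ W (i + k + 2)) :
    ∃ (f : ℕ → ℕ) (g : ℕ), ¬ g ≡ 0 [MOD p] ∧ (∀ j, a + j + k + 1 ≤ n - 1 → f j ≡ f (j + 1) + g [MOD p]) ∧
      (a + 2 * k + 1 ≤ n - 1 → f (k + 1) * g ≡ f 0 * g [MOD p]) ∧
      (∀ j, a + j + k ≤ n - 1 → ∀ v ∈ W (a + j), v ∉ W (a + j + 1) → Commute v z1 → f j ≡ 0 [MOD p]) := by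
  have h4 := h.four_le
  obtain ⟨s, hs1, hs2, hs⟩ := h.exists_good hp3
  obtain ⟨va, hva, hva'⟩ := h.ne_succ (i := a) (by omega)
  set u : ℕ → P := fun j => t s va j with hu
  have hum : ∀ j, u j ∈ W (a + j) := fun j => h.t_mem' hva j
  have hun : ∀ j, a + j ≤ n - 1 → u j ∉ W (a + j + 1) := fun j hj => h.t_notMem' ha hva hva' hs j hj
  have hus : ∀ j, ⁅u j, s⁆ = u (j + 1) := fun j => rfl
  have hrn : r ≤ n - 2 := by
    by_contra hcon
    have h5 := hκ a le_rfl
    rw [h.bot_of_le (by omega : n ≤ r + 1), commutator_bot_right] at h5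
    exact h.ne_bot (by omega) h5.symm
  set z : P := ⁅z1, s⁆ with hz
  have hzm : z ∈ W (r + 1) := h.comm_mem hz1
  have hzn : z ∉ W (r + 2) := by
    intro hmem
    exact hs r hr hrn ((h.mem_K_iff (by omega) hz1 hz1' s).2 hmem)
  have hzs : ⁅z, s⁆ ∈ W (r + 2) := h.comm_mem hzm
  -- elements of `W (r + 2)` commute with `W a`
  have hcomm : ∀ i, a ≤ i → ∀ x ∈ W i, ∀ y ∈ W (r + 2), ⁅x, y⁆ = 1 := by
    intro i hi x hx y hy
    have := commutator_mem_commutator (h.antitone hi hx) hy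
    rwa [hbot, mem_bot] at this
  have hcz : ∀ i, a ≤ i → ∀ x ∈ W i, ∀ y ∈ W (r + 1), ⁅x, y⁆ ∈ W (i + k + 1) := by
    intro i hi x hx y hy
    rw [← hκ i hi]; exact commutator_mem_commutator hx hy
  have hcz1 : ∀ i, a ≤ i → ∀ x ∈ W i, ∀ y ∈ W r, ⁅x, y⁆ ∈ W (i + k) := by
    intro i hi x hx y hy
    exact hB i hi (commutator_mem_commutator hx hy)
  -- `f`
  have hf : ∀ j, ∃ c : ℕ, a + j + k ≤ n - 1 → ∃ w ∈ W (a + j + k + 1), ⁅u j, z1⁆ = u (j + k) ^ c * w := by
    intro j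
    by_cases hj : a + j + k ≤ n - 1
    · have h5 : ⁅u j, z1⁆ ∈ W (a + (j + k)) := by
        rw [← add_assoc]; exact hcz1 _ (by omega) _ (hum j) _ hz1
      obtain ⟨c, w, hw, he⟩ := h.exists_pow (i := a + (j + k)) (by omega) (hum (j + k)) (hun (j + k) (by omega)) h5
      exact ⟨c, fun _ => ⟨w, by rwa [← add_assoc] at hw, he⟩⟩
    · exact ⟨0, fun h5 => absurd h5 hj⟩
  choose f hf using hf
  -- `g`
  have hg0 : ⁅u 0, z⁆ ∈ W (a + (k + 1)) := by
    have := hcz _ le_rfl _ (by simpa using hum 0 : u 0 ∈ W a) _ hzm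
    rwa [add_assoc] at this
  obtain ⟨g, w0, hw0, hg⟩ := h.exists_pow (i := a + (k + 1)) (by omega) (hum (k + 1)) (hun (k + 1) (by omega)) hg0
  -- (G)
  have hG : ∀ j, a + j + k + 1 ≤ n - 1 → ∃ w ∈ W (a + j + k + 2), ⁅u j, z⁆ = u (j + k + 1) ^ g * w := by
    intro j
    induction j with
    | zero =>
      intro _
      refine ⟨w0, by rwa [show a + 0 + k + 2 = a + (k + 1) + 1 by omega], ?_⟩
      rw [hg]; congr 3; omega
    | succ j ih =>
      intro hj
      obtain ⟨w, hw, he⟩ := ih (by omega)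
      have hn := h.normal (a + j + k + 2 + 1)
      set q := QuotientGroup.mk' (W (a + j + k + 2 + 1)) with hq
      have h0 : ∀ y ∈ W (a + j + k + 2 + 1), q y = 1 := fun y hy => (QuotientGroup.eq_one_iff y).2 hy
      have e1 := h.deriv_mk (m := a + j + k + 2) (u := u j) (v := z) (s := s)
        (by
          rw [hus, hcomm (a + (j + 1)) (by omega) _ (hum (j + 1)) _ hzs]; exact one_mem _)
        (by rw [hcomm (a + j) (by omega) _ (hum j) _ hzs]; exact one_mem _)
        (by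
          rw [hus]
          have := hcz (a + (j + 1)) (by omega) _ (hum (j + 1)) _ hzm
          rwa [show a + (j + 1) + k + 1 = a + j + k + 2 by omega] at this)
        (by
          rw [hus]
          have := h.comm_comm_mem (hcz (a + j) (by omega) _ (hum j) _ hzm) (hum (j + 1))
          exact h.antitone (by omega) this)
        (by
          rw [hcomm (a + j + k + 1) (by omega) _ (hcz (a + j) (by omega) _ (hum j) _ hzm) _ hzs]
          exact one_mem _)
      rw [hcomm (a + j) (by omega) _ (hum j) _ hzs, map_one, mul_one, hus, he] at e1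
      have e2 := h.mk_comm_pow_mul (m := a + j + k + 2) (x := u (j + k + 1)) (w := w) (z := s)
        (by
          rw [hus]
          have := hum (j + k + 1 + 1)
          rwa [show a + (j + k + 1 + 1) = a + j + k + 2 by omega] at this)
        (h.comm_mem hw) g
      rw [e2, hus] at e1
      refine ⟨(u (j + k + 2) ^ g)⁻¹ * ⁅u (j + 1), z⁆, ?_, by
        rw [show j + 1 + k + 1 = j + k + 2 by omega]; group⟩
      have : (u (j + k + 2) ^ g)⁻¹ * ⁅u (j + 1), z⁆ ∈ W (a + j + k + 2 + 1) := by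
        rw [← QuotientGroup.eq_one_iff, ← QuotientGroup.mk'_apply, map_mul, map_inv, map_pow, ← e1]
        exact inv_mul_cancel _
      rwa [show a + (j + 1) + k + 2 = a + j + k + 2 + 1 by omega]
  have hgne : ¬ g ≡ 0 [MOD p] := by
    intro hg'
    refine hne a le_rfl hak (u 0) (by simpa using hum 0) (by simpa using hun 0 (by omega)) z hzm hzn ?_
    obtain ⟨c, rfl⟩ := (Nat.modEq_zero_iff_dvd).1 hg'
    rw [hg]
    refine mul_mem ?_ (by rwa [show a + k + 2 = a + (k + 1) + 1 by omega])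
    rw [pow_mul]
    exact Subgroup.pow_mem _ (h.antitone (by omega : a + k + 2 ≤ a + (k + 1) + 1) (h.pow_p_mem (hum (k + 1)))) _
  refine ⟨f, g, hgne, ?_, ?_, ?_⟩
  · -- the slope
    intro j hj
    obtain ⟨w, hw, he⟩ := hf j (by omega)
    obtain ⟨w', hw', he'⟩ := hf (j + 1) (by omega)
    obtain ⟨w'', hw'', he''⟩ := hG j hj
    have hn := h.normal (a + j + k + 1 + 1)
    have h0 : ∀ y ∈ W (a + j + k + 1 + 1), QuotientGroup.mk' (W (a + j + k + 1 + 1)) y = 1 :=
      fun y hy => (QuotientGroup.eq_one_iff y).2 hy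
    have e1 := h.deriv_mk (m := a + j + k + 1) (u := u j) (v := z1) (s := s)
      (by
        rw [hus]
        have := hcz (a + (j + 1)) (by omega) _ (hum (j + 1)) _ hzm
        rwa [show a + (j + 1) + k + 1 = a + j + k + 1 + 1 by omega] at this)
      (hcz (a + j) (by omega) _ (hum j) _ hzm)
      (by
        rw [hus]
        have := hcz1 (a + (j + 1)) (by omega) _ (hum (j + 1)) _ hz1
        rwa [show a + (j + 1) + k = a + j + k + 1 by omega] at this)
      (by
        rw [hus]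
        have := h.comm_comm_mem (hcz1 (a + j) (by omega) _ (hum j) _ hz1) (hum (j + 1))
        exact h.antitone (by omega) this)
      (by
        have := h.comm_comm_mem (hcz1 (a + j) (by omega) _ (hum j) _ hz1) hzm
        exact h.antitone (by omega) this)
    have e2 := h.mk_comm_pow_mul (m := a + j + k + 1) (x := u (j + k)) (w := w) (z := s)
      (by
        rw [hus]
        have := hum (j + k + 1)
        rwa [show a + (j + k + 1) = a + j + k + 1 by omega] at this)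
      (h.comm_mem hw) (f j)
    rw [he, e2, hus, hus, he', ← hz, he'', map_mul, map_mul, map_pow, map_pow, h0 w'
      (by rwa [show a + (j + 1) + k + 1 = a + j + k + 1 + 1 by omega] at hw'), h0 w'' hw'', mul_one, mul_one,
      show j + 1 + k = j + k + 1 by omega, ← pow_add] at e1
    have h5 := hum (j + k + 1)
    have h6 := hun (j + k + 1) (by omega)
    rw [show a + (j + k + 1) = a + j + k + 1 by omega] at h5 h6
    exact h.pow_mk_eq h5 h6 e1
  · -- the shift by `κ`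
    intro hj
    obtain ⟨w, hw, he⟩ := hf 0 (by omega)
    obtain ⟨w', hw', he'⟩ := hf (k + 1) (by omega)
    obtain ⟨w'', hw'', he''⟩ := hG 0 (by omega)
    obtain ⟨w3, hw3, he3⟩ := hG k (by omega)
    rw [zero_add] at he he''
    rw [add_zero] at hw hw''
    have hu0 : u 0 ∈ W a := by simpa using hum 0
    have hzz : ⁅z, z1⁆ ∈ W (r + 2) := h.antitone (by omega) (h.comm_comm_mem hzm hz1)
    have hn := h.normal (a + 2 * k + 1 + 1)
    have h0 : ∀ y ∈ W (a + 2 * k + 1 + 1), QuotientGroup.mk' (W (a + 2 * k + 1 + 1)) y = 1 :=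
      fun y hy => (QuotientGroup.eq_one_iff y).2 hy
    have e1 := h.deriv_mk (m := a + 2 * k + 1) (u := u 0) (v := z) (s := z1)
      (by rw [hcomm (a + k) (by omega) _ (hcz1 a le_rfl _ hu0 _ hz1) _ hzz]; exact one_mem _)
      (by rw [hcomm a le_rfl _ hu0 _ hzz]; exact one_mem _)
      (by
        have := hcz (a + k) (by omega) _ (hcz1 a le_rfl _ hu0 _ hz1) _ hzm
        rwa [show a + k + k + 1 = a + 2 * k + 1 by omega] at this)
      (by
        have := h.comm_comm_mem (hcz a le_rfl _ hu0 _ hzm) (hcz1 a le_rfl _ hu0 _ hz1)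
        exact h.antitone (by omega) this)
      (by rw [hcomm (a + k + 1) (by omega) _ (hcz a le_rfl _ hu0 _ hzm) _ hzz]; exact one_mem _)
    rw [hcomm a le_rfl _ hu0 _ hzz, map_one, mul_one, he, he''] at e1
    have e2 := h.mk_comm_pow_mul (m := a + 2 * k + 1) (x := u (k + 1)) (w := w'') (z := z1)
      (by
        have := hcz1 (a + (k + 1)) (by omega) _ (hum (k + 1)) _ hz1
        rwa [show a + (k + 1) + k = a + 2 * k + 1 by omega] at this)
      (by
        have := hcz1 (a + k + 2) (by omega) _ hw'' _ hz1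
        rwa [show a + k + 2 + k = a + 2 * k + 1 + 1 by omega] at this) g
    have e3 := h.mk_comm_pow_mul (m := a + 2 * k + 1) (x := u k) (w := w) (z := z)
      (by
        have := hcz (a + k) (by omega) _ (hum k) _ hzm
        rwa [show a + k + k + 1 = a + 2 * k + 1 by omega] at this)
      (by
        have := hcz (a + k + 1) (by omega) _ hw _ hzm
        rwa [show a + k + 1 + k + 1 = a + 2 * k + 1 + 1 by omega] at this) (f 0)
    rw [e2, e3, he', he3, map_mul, map_mul, map_pow, map_pow,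
      h0 w' (by rwa [show a + (k + 1) + k + 1 = a + 2 * k + 1 + 1 by omega] at hw'),
      h0 w3 (by rwa [show a + k + k + 2 = a + 2 * k + 1 + 1 by omega] at hw3), mul_one, mul_one,
      show k + 1 + k = k + k + 1 by omega, ← pow_mul, ← pow_mul] at e1
    have h5 := hum (k + k + 1)
    have h6 := hun (k + k + 1) (by omega)
    rw [show a + (k + k + 1) = a + 2 * k + 1 by omega] at h5 h6
    have h7 := h.pow_mk_eq h5 h6 e1
    rwa [mul_comm g (f 0)] at h7
  · -- zeros
    intro j hj v hv hv' hc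
    obtain ⟨w, hw, he⟩ := hf j hj
    obtain ⟨c, x, hx, hvx⟩ := h.exists_pow (i := a + j) (by omega) (hum j) (hun j (by omega)) hv
    have hc0 : ¬ p ∣ c := by
      rintro ⟨c', rfl⟩
      apply hv'
      rw [hvx]
      refine mul_mem ?_ hx
      rw [pow_mul]
      exact Subgroup.pow_mem _ (h.pow_p_mem (hum j)) _
    have hn := h.normal (a + j + k + 1)
    have h0 : ∀ y ∈ W (a + j + k + 1), QuotientGroup.mk' (W (a + j + k + 1)) y = 1 :=
      fun y hy => (QuotientGroup.eq_one_iff y).2 hy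
    have e1 := h.mk_comm_pow_mul (m := a + j + k) (x := u j) (w := x) (z := z1)
      (hcz1 (a + j) (by omega) _ (hum j) _ hz1)
      (by
        have := hcz1 (a + j + 1) (by omega) _ hx _ hz1
        rwa [show a + j + 1 + k = a + j + k + 1 by omega] at this) c
    rw [← hvx, (commutatorElement_eq_one_iff_commute).2 hc, map_one, he, map_mul, map_pow, h0 w hw, mul_one,
      ← pow_mul, ← pow_zero (QuotientGroup.mk' (W (a + j + k + 1)) (u (j + k)))] at e1
    have h5 := hum (j + k)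
    have h6 := hun (j + k) (by omega)
    rw [show a + (j + k) = a + j + k by omega] at h5 h6
    have h7 := h.pow_mk_eq h5 h6 e1
    have h8 := (Nat.modEq_zero_iff_dvd).1 h7.symm
    exact (Nat.modEq_zero_iff_dvd).2 ((hp.out.dvd_mul.1 h8).resolve_right hc0)

/-- **D2.** At most one index `i` with `i + κ ≤ n - 1` of elements commuting with `z1`. -/
theorem transvection [Finite P] (h : MC P p n W) [hp : Fact p.Prime] (hp3 : 3 ≤ p) {a r κ : ℕ} (ha : 1 ≤ a)
    (hr : 1 ≤ r) (hrange : n - 1 - a < p) (hbot : ⁅W a, W (r + 2)⁆ = ⊥) (hrκ : r + 1 ≤ κ) (haκ : a + κ ≤ n - 1)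
    (hκ : ∀ i, a ≤ i → ⁅W i, W (r + 1)⁆ = W (i + κ))
    (hne : ∀ i, a ≤ i → i + κ ≤ n - 1 → ∀ v ∈ W i, v ∉ W (i + 1) → ∀ z ∈ W (r + 1), z ∉ W (r + 2) →
        ⁅v, z⁆ ∉ W (i + κ + 1))
    {z1 : P} (hz1 : z1 ∈ W r) (hz1' : z1 ∉ W (r + 1)) {i i' : ℕ} (hi : a ≤ i) (hii : i < i') (hi' : i' + κ ≤ n - 1)
    {v v' : P} (hv : v ∈ W i) (hvn : v ∉ W (i + 1)) (hv' : v' ∈ W i') (hvn' : v' ∉ W (i' + 1))
    (hc : Commute v z1) (hc' : Commute v' z1) : False := by
  obtain ⟨k, rfl⟩ : ∃ k, κ = k + 1 := ⟨κ - 1, by omega⟩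
  rcases h.deg_next ha hr hκ haκ with hB | ⟨d, hd1, hd2, hd3, hd4⟩
  · obtain ⟨f, g, hg, hslope, -, hzero⟩ := h.coeff hp3 ha hr hbot hκ haκ (by omega) hB hz1 hz1' hne
    obtain ⟨j, rfl⟩ := Nat.exists_eq_add_of_le hi
    obtain ⟨e, he⟩ := Nat.exists_eq_add_of_lt hii
    have h1 : ∀ l, l ≤ e + 1 → f j ≡ f (j + l) + l * g [MOD p] := by
      intro l
      induction l with
      | zero => intro _; rw [add_zero, zero_mul, add_zero]
      | succ l ih =>
        intro hl
        have h2 := ih (by omega)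
        have h3 := hslope (j + l) (by omega)
        refine h2.trans ?_
        rw [show (l + 1) * g = g + l * g by ring, ← add_assoc, show j + (l + 1) = j + l + 1 by omega]
        exact h3.add_right _
    have h2 := h1 (e + 1) le_rfl
    have h3 := hzero j (by omega) v hv hvn hc
    have h4 := hzero (j + (e + 1)) (by omega) v' (by rwa [show a + (j + (e + 1)) = i' by omega])
      (by rwa [show a + (j + (e + 1)) + 1 = i' + 1 by omega]) hc'
    have h5 : (e + 1) * g ≡ 0 [MOD p] := by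
      have h6 := (h4.add_right ((e + 1) * g)).symm.trans (h2.symm.trans h3)
      rwa [zero_add] at h6
    rcases hp.out.dvd_mul.1 ((Nat.modEq_zero_iff_dvd).1 h5) with h6 | h6
    · have := Nat.le_of_dvd (by omega) h6
      omega
    · exact hg ((Nat.modEq_zero_iff_dvd).2 h6)
  · refine hd4 i hi (by omega) v hv hvn z1 hz1 hz1' ?_
    rw [(commutatorElement_eq_one_iff_commute).2 hc]
    exact one_mem _

/-- **D3.** -/
theorem deg_next_cases [Finite P] (h : MC P p n W) [hp : Fact p.Prime] (hp3 : 3 ≤ p) {a r κ : ℕ} (ha : 1 ≤ a)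
    (hr : 1 ≤ r) (hrange : n - 1 - a < p) (hbot : ⁅W a, W (r + 2)⁆ = ⊥) (hrκ : r + 1 ≤ κ) (haκ : a + κ ≤ n - 1)
    (hκ : ∀ i, a ≤ i → ⁅W i, W (r + 1)⁆ = W (i + κ))
    (hne : ∀ i, a ≤ i → i + κ ≤ n - 1 → ∀ v ∈ W i, v ∉ W (i + 1) → ∀ z ∈ W (r + 1), z ∉ W (r + 2) →
        ⁅v, z⁆ ∉ W (i + κ + 1)) :
    (n - 1 - a ≤ 2 * κ - 2 ∧ ∀ i, a ≤ i → ⁅W i, W r⁆ ≤ W (i + κ - 1)) ∨
      ∃ d, r ≤ d ∧ d + 1 < κ ∧ (∀ i, a ≤ i → ⁅W i, W r⁆ = W (i + d)) ∧
        (∀ i, a ≤ i → i + d ≤ n - 1 → ∀ v ∈ W i, v ∉ W (i + 1) → ∀ z ∈ W r, z ∉ W (r + 1) → ⁅v, z⁆ ∉ W (i + d + 1)) := by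
  obtain ⟨k, rfl⟩ : ∃ k, κ = k + 1 := ⟨κ - 1, by omega⟩
  rcases h.deg_next ha hr hκ haκ with hB | ⟨d, hd1, hd2, hd3, hd4⟩
  · left
    refine ⟨?_, fun i hi => by rw [show i + (k + 1) - 1 = i + k by omega]; exact hB i hi⟩
    by_contra hcon
    push Not at hcon
    have hrn : r < n := by omega
    obtain ⟨z1, hz1, hz1'⟩ := h.ne_succ hrn
    obtain ⟨f, g, hg, hslope, hshift, -⟩ := h.coeff hp3 ha hr hbot hκ haκ (by omega) hB hz1 hz1' hne
    have h1 : ∀ l, l ≤ k + 1 → f 0 ≡ f l + l * g [MOD p] := by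
      intro l
      induction l with
      | zero => intro _; rw [zero_mul, add_zero]
      | succ l ih =>
        intro hl
        have h2 := ih (by omega)
        have h3 := hslope l (by omega)
        refine h2.trans ?_
        rw [show (l + 1) * g = g + l * g by ring, ← add_assoc]
        exact h3.add_right _
    have h2 := h1 (k + 1) le_rfl
    have h3 := hshift (by omega)
    have hcop : Nat.gcd p g = 1 := by
      rw [← Nat.coprime_iff_gcd_eq_one, Nat.Prime.coprime_iff_not_dvd hp.out]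
      exact fun h5 => hg ((Nat.modEq_zero_iff_dvd).2 h5)
    have h4 : f (k + 1) ≡ f 0 [MOD p] := Nat.ModEq.cancel_right_of_coprime hcop h3
    have h5 : (k + 1) * g ≡ 0 [MOD p] := by
      have h6 : f (k + 1) + (k + 1) * g ≡ f (k + 1) + 0 [MOD p] := by
        rw [add_zero]; exact h2.symm.trans h4.symm
      exact Nat.ModEq.add_left_cancel' _ h6
    rcases hp.out.dvd_mul.1 ((Nat.modEq_zero_iff_dvd).1 h5) with h6 | h6
    · have := Nat.le_of_dvd (by omega) h6
      omega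
    · exact hg ((Nat.modEq_zero_iff_dvd).2 h6)
  · right
    exact ⟨d, hd1, by omega, hd3, hd4⟩

/-! ### The same theorems with `t` (as in the plan of S5267) -/

/-- **D1.** -/
theorem D1 (h : MC P p n W) [hp : Fact p.Prime] {a t : ℕ} (ha : 1 ≤ a) (ht : 2 ≤ t)
    (hbot : ⁅W a, W t⁆ = ⊥) (hne : ⁅W a, W (t - 1)⁆ ≠ ⊥) :
    ∃ κ, t - 1 ≤ κ ∧ a + κ ≤ n - 1 ∧ (∀ i, a ≤ i → ⁅W i, W (t - 1)⁆ = W (i + κ)) ∧
      (∀ i, a ≤ i → i + κ ≤ n - 1 → ∀ v ∈ W i, v ∉ W (i + 1) → ∀ z ∈ W (t - 1), z ∉ W t →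
        ⁅v, z⁆ ∉ W (i + κ + 1)) ∧
      ((∀ i j, 1 ≤ i → 1 ≤ j → ⁅W i, W j⁆ ≤ W (i + j + 1)) → t ≤ κ) := by
  obtain ⟨r, rfl⟩ : ∃ r, t = r + 1 := ⟨t - 1, by omega⟩
  rw [Nat.add_sub_cancel] at hne ⊢
  obtain ⟨κ, h1, h2, h3, h4⟩ := h.deg_uniform ha (by omega) hbot hne
  refine ⟨κ, h1, h2, h3, h4, fun hdeg => ?_⟩
  have h5 := hdeg a r ha (by omega)
  rw [h3 a le_rfl] at h5
  have h6 := h.four_le
  have := (h.le_iff (by omega)).1 h5
  omega

/-- **D2.** -/
theorem D2 [Finite P] (h : MC P p n W) [hp : Fact p.Prime] (hp3 : 3 ≤ p) {a t κ : ℕ} (ha : 1 ≤ a)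
    (ht : 3 ≤ t) (hrange : n - 1 - a < p) (hbot : ⁅W a, W t⁆ = ⊥) (hrκ : t - 1 ≤ κ) (haκ : a + κ ≤ n - 1)
    (hκ : ∀ i, a ≤ i → ⁅W i, W (t - 1)⁆ = W (i + κ))
    (hne : ∀ i, a ≤ i → i + κ ≤ n - 1 → ∀ v ∈ W i, v ∉ W (i + 1) → ∀ z ∈ W (t - 1), z ∉ W t →
        ⁅v, z⁆ ∉ W (i + κ + 1))
    {z1 : P} (hz1 : z1 ∈ W (t - 2)) (hz1' : z1 ∉ W (t - 1)) {i i' : ℕ} (hi : a ≤ i) (hii : i < i')
    (hi' : i' + κ ≤ n - 1) {v v' : P} (hv : v ∈ W i) (hvn : v ∉ W (i + 1)) (hv' : v' ∈ W i') (hvn' : v' ∉ W (i' + 1))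
    (hc : Commute v z1) (hc' : Commute v' z1) : False := by
  obtain ⟨r, rfl⟩ : ∃ r, t = r + 2 := ⟨t - 2, by omega⟩
  exact h.transvection hp3 ha (by omega) hrange hbot hrκ haκ hκ hne hz1 hz1' hi hii hi' hv hvn hv' hvn' hc hc'

/-- **D3.** -/
theorem D3 [Finite P] (h : MC P p n W) [hp : Fact p.Prime] (hp3 : 3 ≤ p) {a t κ : ℕ} (ha : 1 ≤ a)
    (ht : 3 ≤ t) (hrange : n - 1 - a < p) (hbot : ⁅W a, W t⁆ = ⊥) (hrκ : t - 1 ≤ κ) (haκ : a + κ ≤ n - 1)
    (hκ : ∀ i, a ≤ i → ⁅W i, W (t - 1)⁆ = W (i + κ))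
    (hne : ∀ i, a ≤ i → i + κ ≤ n - 1 → ∀ v ∈ W i, v ∉ W (i + 1) → ∀ z ∈ W (t - 1), z ∉ W t →
        ⁅v, z⁆ ∉ W (i + κ + 1)) :
    (n - 1 - a ≤ 2 * κ - 2 ∧ ∀ i, a ≤ i → ⁅W i, W (t - 2)⁆ ≤ W (i + κ - 1)) ∨
      ∃ d, t - 2 ≤ d ∧ d + 1 < κ ∧ (∀ i, a ≤ i → ⁅W i, W (t - 2)⁆ = W (i + d)) ∧
        (∀ i, a ≤ i → i + d ≤ n - 1 → ∀ v ∈ W i, v ∉ W (i + 1) → ∀ z1 ∈ W (t - 2), z1 ∉ W (t - 1) →
          ⁅v, z1⁆ ∉ W (i + d + 1)) := by
  obtain ⟨r, rfl⟩ : ∃ r, t = r + 2 := ⟨t - 2, by omega⟩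
  exact h.deg_next_cases hp3 ha (by omega) hrange hbot hrκ haκ hκ hne

/-- **D4.** -/
theorem D4 [Finite P] (h : MC P p n W) [hp : Fact p.Prime] (hp3 : 3 ≤ p) (hK : h.Ksub (n - 2) ≠ W 1) {i : ℕ}
    (hi : 1 ≤ i) (hi' : i ≤ n - 2) {v s' : P} (hv : v ∈ W i) (hv' : v ∉ W (i + 1)) (hs : s' ∈ W (n - 1 - i))
    (hs' : s' ∉ W (n - i)) : ⁅v, s'⁆ ≠ 1 ∧ ⁅v, s'⁆ ∈ W (n - 1) := by
  refine ⟨h.pairing hp3 hK hi (by omega : 1 ≤ n - 1 - i) (by omega) hv hv' hs (by rwa [show n - 1 - i + 1 = n - i by omega]),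
    ?_⟩
  have := h.comm_comm_mem hv hs
  rwa [show i + (n - 1 - i) = n - 1 by omega] at this

end MC

end Cfsg.Agent.H467.MaxClass
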