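import Cfsg.Agent.H467.XThree
import Cfsg.Agent.H779.W4
import Cfsg.Agent.H779.W5

/-!
# The exceptional core lemma of S5267 from step (W6) (helper467)
-/

set_option autoImplicit false

namespace Cfsg.Agent.H467.XThree

open Subgroup Cfsg.Agent.H467.MaxClass Cfsg.Agent.H786
open scoped commutatorElement

universe u

variable {P : Type u} [Group P] {E : Subgroup P} {p n : ℕ} {W : ℕ → Subgroup P} [hW1 : (W 1).Normal]
  {A : Subgroup (MulAut (W 1))} {B H : Subgroup (MulAut E)} [Finite P] [hp : Fact p.Prime]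

/-- The exceptional core lemma, from (W6). -/
theorem coreX_of (c : CfgX p n W A E B H)
    (hW6 : ∀ (a t l : ℕ) (v z : P) (k : MulAut E), XData p n W E B H a t l v z k →
      ¬ ⁅W 1, W 1⁆ ≤ W (n - 1) → PClosed A → False) : ZInv B (W (n - 1)) := by
  by_contra h
  obtain ⟨a, t, l, v, z, k, x⟩ := exists_xdata c h
  by_cases hab : ⁅W 1, W 1⁆ ≤ W (n - 1)
  · exact Cfsg.Agent.H779.Core.w4_xdata c x hab
  · exact hW6 a t l v z k x hab (Cfsg.Agent.H779.Core.w5_xdata c x hab)

end Cfsg.Agent.H467.XThree
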