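import Cfsg.Agent.H541.PolySeq

/-!
# Iterated differences of polynomial sequences are additive modulo the next term (helper467)

`PA F i g`: `g` is a polynomial sequence of shift `i` with respect to the filtration `F`
(`∂^l g` takes values in `F (i + l)` for all `l`).

* `difs_mul`: for `g`, `h` of shift `i ≥ 1`, `∂^l (g h) = ∂^l g ∂^l h e` with `e` of shift `i + l + 1`.
* `Y t x b = t ^ (-b) x t ^ b` has `∂^l (Y t x) = Y t [t⁻¹, …, [t⁻¹, x]]`.
* `Psi s x m b`: `(s ^ b * x) ^ m = s ^ (b * m) * Psi s x m b`.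
-/

set_option autoImplicit false

open scoped commutatorElement

namespace Cfsg.Agent.H467.PolyDiff

open Cfsg.Agent.H541.PolySeq

variable {G : Type*} [Group G] {F : ℕ → Subgroup G}

/-- polynomial sequences of shift `i` -/
def PA (F : ℕ → Subgroup G) (i : ℕ) (g : ℕ → G) : Prop := ∀ k, Poly F k i g

namespace PA

theorem le (hF : Filt F) {i j : ℕ} (hij : j ≤ i) {g : ℕ → G} (h : PA F i g) : PA F j g :=
  fun k => hF.poly_le hij (h k)

theorem mul (hF : Filt F) {i : ℕ} {g h : ℕ → G} (hg : PA F i g) (hh : PA F i h) :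
    PA F i (fun n => g n * h n) :=
  fun k => (hF.poly_all k).1 _ _ _ (hg k) (hh k)

theorem inv (hF : Filt F) {i : ℕ} {g : ℕ → G} (hg : PA F i g) : PA F i (fun n => (g n)⁻¹) :=
  fun k => (hF.poly_all k).2.1 _ _ (hg k)

theorem comm (hF : Filt F) {i j : ℕ} {g h : ℕ → G} (hg : PA F i g) (hh : PA F j h) :
    PA F (i + j) (fun n => ⁅g n, h n⁆) :=
  fun k => (hF.poly_all k).2.2 _ _ _ _ (hg k) (hh k)

theorem dif {i : ℕ} {g : ℕ → G} (hg : PA F i g) : PA F (i + 1) (dif g) :=
  fun k => (hg (k + 1)).2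

theorem val {i : ℕ} {g : ℕ → G} (hg : PA F i g) (n : ℕ) : g n ∈ F i := hg 0 n

theorem one (i : ℕ) : PA F i (fun _ => 1) := fun k => Filt.poly_one i k

theorem difs {i : ℕ} {g : ℕ → G} (hg : PA F i g) (l : ℕ) :
    PA F (i + l) (Cfsg.Agent.H541.PolySeq.dif^[l] g) := by
  induction l generalizing i g with
  | zero => exact hg
  | succ l ih =>
    rw [Function.iterate_succ_apply]
    have := ih hg.dif
    rwa [show i + (l + 1) = i + 1 + l by omega]

end PA

theorem dif_step (hF : Filt F) {i : ℕ} (hi : 1 ≤ i) {g h e : ℕ → G} (hg : PA F i g)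
    (hh : PA F i h) (he : PA F (i + 1) e) :
    ∃ e' : ℕ → G, PA F (i + 2) e' ∧
      dif (fun n => g n * h n * e n) = fun n => dif g n * dif h n * e' n := by
  have hde : PA F (i + 2) (dif e) := he.dif
  have hdh : PA F (i + 1) (dif h) := hh.dif
  have hr : PA F (i + 2) (fun n => ⁅h n, dif e n⁆ * dif e n) :=
    PA.mul hF ((PA.comm hF hh hde).le hF (by omega)) hde
  have hv : PA F (i + 1) (fun n => dif h n * (⁅h n, dif e n⁆ * dif e n)) :=
    PA.mul hF hdh (hr.le hF (by omega))
  have hq : PA F (i + 2) (fun n => ⁅g n, dif h n * (⁅h n, dif e n⁆ * dif e n)⁆) :=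
    (PA.comm hF hg hv).le hF (by omega)
  have hq' : PA F (i + 2) (fun n => ⁅(dif h n)⁻¹, ⁅g n, dif h n * (⁅h n, dif e n⁆ * dif e n)⁆⁆) :=
    (PA.comm hF (PA.inv hF hdh) hq).le hF (by omega)
  refine ⟨_, PA.mul hF (PA.mul hF hq' hq) hr, ?_⟩
  funext n
  simp only [dif, commutatorElement_def]
  group

theorem difs_step (hF : Filt F) (l : ℕ) : ∀ {i : ℕ}, 1 ≤ i → ∀ {g h e : ℕ → G}, PA F i g →
    PA F i h → PA F (i + 1) e →
    ∃ e' : ℕ → G, PA F (i + l + 1) e' ∧
      dif^[l] (fun n => g n * h n * e n) = fun n => dif^[l] g n * dif^[l] h n * e' n := by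
  induction l with
  | zero => intro i _ g h e _ _ he; exact ⟨e, he, rfl⟩
  | succ l ih =>
    intro i hi g h e hg hh he
    obtain ⟨e1, he1, h1⟩ := dif_step hF hi hg hh he
    obtain ⟨e2, he2, h2⟩ := ih (by omega : 1 ≤ i + 1) hg.dif hh.dif he1
    refine ⟨e2, by rwa [show i + (l + 1) + 1 = i + 1 + l + 1 by omega], ?_⟩
    rw [Function.iterate_succ_apply, h1, h2]
    rfl

/-- Additivity of iterated differences. -/
theorem difs_mul (hF : Filt F) (l : ℕ) {i : ℕ} (hi : 1 ≤ i) {g h : ℕ → G} (hg : PA F i g)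
    (hh : PA F i h) (n : ℕ) :
    ∃ e ∈ F (i + l + 1), dif^[l] (fun n => g n * h n) n = dif^[l] g n * dif^[l] h n * e := by
  obtain ⟨e', he', h1⟩ := difs_step hF l hi hg hh (PA.one (i + 1))
  refine ⟨e' n, he'.val n, ?_⟩
  have h2 : (fun n => g n * h n * 1) = fun n => g n * h n := by funext n; rw [mul_one]
  rw [h2] at h1
  rw [h1]

theorem dif_map {H : Type*} [Group H] (q : G →* H) (g : ℕ → G) (l : ℕ) :
    dif^[l] (fun n => q (g n)) = fun n => q (dif^[l] g n) := by
  induction l generalizing g with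
  | zero => rfl
  | succ l ih =>
    rw [Function.iterate_succ_apply]
    have : dif (fun n => q (g n)) = fun n => q (dif g n) := by
      funext n
      simp only [dif, map_mul, map_inv]
    rw [this, ih]
    rfl

/-- A sequence with `g b = 1` for `1 ≤ b ≤ l`. -/
theorem difs_zero (l : ℕ) : ∀ g : ℕ → G, (∀ b, 1 ≤ b → b ≤ l → g b = 1) →
    dif^[l] g 0 = g 0 ∨ dif^[l] g 0 = (g 0)⁻¹ := by
  induction l with
  | zero => intro g _; exact Or.inl rfl
  | succ l ih =>
    intro g hg
    rw [Function.iterate_succ_apply]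
    have h0 : dif g 0 = (g 0)⁻¹ := by
      simp only [dif]
      rw [hg (0 + 1) (by omega) (by omega), one_mul]
    have h1 : ∀ b, 1 ≤ b → b ≤ l → dif g b = 1 := by
      intro b hb1 hb2
      simp only [dif]
      rw [hg b hb1 (by omega), hg (b + 1) (by omega) (by omega)]
      simp
    rcases ih (dif g) h1 with h | h
    · right; rw [h, h0]
    · left; rw [h, h0, inv_inv]

/-- `t ^ (-b) x t ^ b` -/
def Y (t x : G) (b : ℕ) : G := (t ^ b)⁻¹ * x * t ^ b

theorem dif_Y (t x : G) : dif (Y t x) = Y t ⁅t⁻¹, x⁆ := by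
  funext b
  simp only [dif, Y, commutatorElement_def, pow_succ]
  group

theorem difs_Y (t x : G) (l : ℕ) : dif^[l] (Y t x) = Y t ((fun y => ⁅t⁻¹, y⁆)^[l] x) := by
  induction l generalizing x with
  | zero => rfl
  | succ l ih => rw [Function.iterate_succ_apply, dif_Y, ih, Function.iterate_succ_apply]

theorem Y_zero (t x : G) : Y t x 0 = x := by simp [Y]

/-- the products -/
def Psi (s x : G) : ℕ → ℕ → G
  | 0, _ => 1
  | m + 1, b => Y (s ^ m) x b * Psi s x m b

theorem mul_pow_eq (s x : G) (b m : ℕ) : (s ^ b * x) ^ m = s ^ (b * m) * Psi s x m b := by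
  induction m with
  | zero => simp [Psi]
  | succ m ih =>
    rw [pow_succ', ih, Psi, Y, ← pow_mul, mul_comm m b, Nat.mul_succ, add_comm (b * m) b, pow_add]
    group

end Cfsg.Agent.H467.PolyDiff
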