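import Cfsg.Agent.H467.MaxClassUniform
import Cfsg.Agent.H467.PolyDiff

/-!
# p-groups of maximal class: the power structure (helper467)

`P` of maximal class of order `p ^ n`, chain `W`, `s` outside all two-step centralizers.

* `MC.power_formula`: if `(s ^ b x) ^ p = s ^ (b p)` modulo `W (j + p)` for `0 < b < p`, `x ∈ W j`,
  then `x ^ p ∈ W (j + p - 1)`, and `x ^ p ∈ W (j + p) ↔ [s⁻¹, …, [s⁻¹, x]] ∈ W (j + p)`.
* `MC.pow_mem`, `MC.pow_notMem`: (`p` odd) `x ∈ W j - W (j + 1)` implies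
  `x ^ p ∈ W (j + p - 1) - W (j + p)` for `2 ≤ j`, and for `j = 1` if `p + 2 ≤ n`.
-/

set_option autoImplicit false

namespace Cfsg.Agent.H467.MaxClass

open Subgroup
open scoped commutatorElement
open Cfsg.Agent.H541.PolySeq Cfsg.Agent.H467.PolyDiff

universe u

variable {P : Type u} [Group P]

/-- `⁅t⁻¹, y⁆` -/
def D (t : P) (y : P) : P := ⁅t⁻¹, y⁆

/-- the filtration of `W j` -/
def FF (W : ℕ → Subgroup P) (j m : ℕ) : Subgroup P := W (j + (m - 1))

section Central

variable {Q : Type*} [Group Q]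

theorem comm_pow_left {u y : Q} (hc : ∀ x : Q, Commute ⁅u, y⁆ x) (m : ℕ) : ⁅u ^ m, y⁆ = ⁅u, y⁆ ^ m := by
  induction m with
  | zero => simp
  | succ m ih =>
    have e : ⁅u ^ (m + 1), y⁆ = u ^ m * ⁅u, y⁆ * (u ^ m)⁻¹ * ⁅u ^ m, y⁆ := by
      simp only [commutatorElement_def, pow_succ]; group
    have h2 : u ^ m * ⁅u, y⁆ * (u ^ m)⁻¹ = ⁅u, y⁆ := by
      rw [← (hc (u ^ m)).eq]; group
    rw [e, h2, ih, ← pow_succ']

theorem comm_pow_right {u y : Q} (hc : ∀ x : Q, Commute ⁅u, y⁆ x) (m : ℕ) :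
    ⁅u, y ^ m⁆ = ⁅u, y⁆ ^ m := by
  have hc' : ∀ x : Q, Commute ⁅y, u⁆ x := by
    intro x
    rw [← commutatorElement_inv u y]
    exact (hc x).inv_left
  rw [← commutatorElement_inv (y ^ m) u, comm_pow_left hc' m, ← commutatorElement_inv u y, inv_pow,
    inv_inv]

end Central

namespace MC

variable {p n : ℕ} {W : ℕ → Subgroup P}

theorem filt (h : MC P p n W) [hp : Fact p.Prime] {j : ℕ} (hj : 1 ≤ j) : Filt (FF W j) where
  anti i := h.antitone (by omega)
  comm a b := (h.comm_comm _ _).trans (h.antitone (by omega))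

theorem D_mem (h : MC P p n W) {i : ℕ} {t y : P} (hy : y ∈ W i) : D t y ∈ W (i + 1) :=
  h.comm_mem' hy

theorem Dl_mem (h : MC P p n W) {i : ℕ} {t y : P} (hy : y ∈ W i) (l : ℕ) :
    (D t)^[l] y ∈ W (i + l) := by
  induction l generalizing i y with
  | zero => exact hy
  | succ l ih =>
    rw [Function.iterate_succ_apply]
    have := ih (h.D_mem (t := t) hy)
    rwa [show i + (l + 1) = i + 1 + l by omega]

theorem pa_Y (h : MC P p n W) {j i : ℕ} {x t : P} (hx : x ∈ W (j + i)) :
    PA (FF W j) (i + 1) (Y t x) := by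
  intro k
  induction k generalizing i x with
  | zero =>
    intro b
    change (t ^ b)⁻¹ * x * t ^ b ∈ W (j + (i + 1 - 1))
    rw [Nat.add_sub_cancel]
    have := h.conj_mem hx (t ^ b)⁻¹
    rwa [inv_inv] at this
  | succ k ih =>
    refine ⟨?_, ?_⟩
    · intro b
      change (t ^ b)⁻¹ * x * t ^ b ∈ W (j + (i + 1 - 1))
      rw [Nat.add_sub_cancel]
      have := h.conj_mem hx (t ^ b)⁻¹
      rwa [inv_inv] at this
    · rw [dif_Y]
      exact ih (i := i + 1) (h.comm_mem' hx)

theorem pa_Psi (h : MC P p n W) [hp : Fact p.Prime] {j : ℕ} (hj : 1 ≤ j) {s x : P} (hx : x ∈ W j)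
    (m : ℕ) : PA (FF W j) 1 (Psi s x m) := by
  induction m with
  | zero => exact PA.one 1
  | succ m ih => exact PA.mul (h.filt hj) (h.pa_Y (i := 0) hx) ih

/-- `D (s ^ m)` iterated, modulo the next term. -/
theorem Dl_pow (h : MC P p n W) {i : ℕ} {s y : P} (hy : y ∈ W i) (m l : ℕ) :
    haveI := h.normal (i + l + 1)
    QuotientGroup.mk' (W (i + l + 1)) ((D (s ^ m))^[l] y) =
      (QuotientGroup.mk' (W (i + l + 1)) ((D s)^[l] y)) ^ (m ^ l) := by
  induction l with
  | zero => simp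
  | succ l ih =>
    have := h.normal (i + l + 1)
    have := h.normal (i + (l + 1) + 1)
    rw [Function.iterate_succ_apply', Function.iterate_succ_apply']
    set u := (D (s ^ m))^[l] y with hu
    set v := (D s)^[l] y with hv
    have huW : u ∈ W (i + l) := h.Dl_mem hy l
    have hvW : v ∈ W (i + l) := h.Dl_mem hy l
    -- `u = v ^ (m ^ l) * z`
    obtain ⟨z, hz, huz⟩ : ∃ z ∈ W (i + l + 1), u = v ^ (m ^ l) * z := by
      refine ⟨(v ^ (m ^ l))⁻¹ * u, ?_, by group⟩
      rw [← QuotientGroup.eq_one_iff]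
      change QuotientGroup.mk' (W (i + l + 1)) ((v ^ (m ^ l))⁻¹ * u) = 1
      rw [map_mul, map_inv, map_pow, ih, inv_mul_cancel]
    set q : P →* P ⧸ W (i + (l + 1) + 1) := QuotientGroup.mk' _ with hq
    have hcen : ∀ a ∈ W (i + l + 1), ∀ g : P ⧸ W (i + (l + 1) + 1), Commute (q a) g := by
      intro a ha g
      obtain ⟨g, rfl⟩ := QuotientGroup.mk'_surjective _ g
      rw [← commutatorElement_eq_one_iff_commute]
      change ⁅q a, q g⁆ = 1
      rw [← map_commutatorElement, hq, QuotientGroup.mk'_apply, QuotientGroup.eq_one_iff]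
      have := h.comm_mem (x := g) ha
      rwa [show i + l + 1 + 1 = i + (l + 1) + 1 by omega] at this
    have hqz : ∀ t : P, ⁅q t, q z⁆ = 1 := by
      intro t
      rw [commutatorElement_eq_one_iff_commute]
      exact (hcen z hz (q t)).symm
    have hc1 : ∀ (t : P), ∀ g, Commute ⁅q t, q v⁆ g := by
      intro t g
      rw [← map_commutatorElement]
      exact hcen _ (h.comm_mem' hvW) g
    -- compute
    change q ⁅(s ^ m)⁻¹, u⁆ = q ⁅s⁻¹, v⁆ ^ (m ^ (l + 1))
    rw [huz, map_commutatorElement, map_mul, map_pow]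
    have e1 : ⁅q (s ^ m)⁻¹, q v ^ m ^ l * q z⁆ = ⁅q (s ^ m)⁻¹, q v ^ m ^ l⁆ *
        (q v ^ m ^ l * ⁅q (s ^ m)⁻¹, q z⁆ * (q v ^ m ^ l)⁻¹) := by
      simp only [commutatorElement_def]; group
    rw [e1, hqz, mul_one, mul_inv_cancel, mul_one, comm_pow_right (hc1 _), map_commutatorElement]
    have e2 : q (s ^ m)⁻¹ = (q s⁻¹) ^ m := by rw [← map_pow, inv_pow]
    rw [e2, comm_pow_left (hc1 _), ← pow_mul, pow_succ, mul_comm m]

/-- The value of the `(p-1)`-st difference. -/
theorem difs_Psi (h : MC P p n W) [hp : Fact p.Prime] {j : ℕ} (hj : 1 ≤ j) {s x : P}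
    (hx : x ∈ W j) (l m : ℕ) :
    haveI := h.normal (j + l + 1)
    QuotientGroup.mk' (W (j + l + 1)) (dif^[l] (Psi s x m) 0) =
      (QuotientGroup.mk' (W (j + l + 1)) ((D s)^[l] x)) ^ (∑ i ∈ Finset.range m, i ^ l) := by
  have hnn := h.normal (j + l + 1)
  set q : P →* P ⧸ W (j + l + 1) := QuotientGroup.mk' _ with hq
  induction m with
  | zero =>
    rw [Finset.range_zero, Finset.sum_empty, pow_zero]
    have : ∀ l : ℕ, dif^[l] (Psi s x 0) = fun _ => 1 := by
      intro l
      induction l with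
      | zero => rfl
      | succ l ih =>
        rw [Function.iterate_succ_apply', ih]
        funext n
        simp [dif]
    rw [this, map_one]
  | succ m ih =>
    obtain ⟨e, he, h1⟩ := difs_mul (h.filt hj) l le_rfl (h.pa_Y (j := j) (i := 0) (t := s ^ m) hx)
      (h.pa_Psi hj (s := s) hx m) 0
    have h2 : dif^[l] (Psi s x (m + 1)) 0 =
        dif^[l] (Y (s ^ m) x) 0 * dif^[l] (Psi s x m) 0 * e := h1
    have he' : e ∈ W (j + l + 1) := by
      have : FF W j (1 + l + 1) = W (j + l + 1) := by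
        unfold FF; congr 1; omega
      rwa [← this]
    have hqe : q e = 1 := by
      rw [hq, QuotientGroup.mk'_apply, QuotientGroup.eq_one_iff]; exact he'
    have h3 : q (dif^[l] (Y (s ^ m) x) 0) = q ((D s)^[l] x) ^ (m ^ l) := by
      rw [difs_Y, Y_zero]
      exact h.Dl_pow hx m l
    rw [h2, map_mul, map_mul, hqe, mul_one, ih, h3, Finset.sum_range_succ, ← pow_add, add_comm (m ^ l)]

theorem pow_p_mem (h : MC P p n W) {i : ℕ} {x : P} (hx : x ∈ W i) : x ^ p ∈ W (i + 1) := by
  have hn := h.normal (i + 1)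
  rcases Nat.lt_or_ge i n with hi | hi
  · have h1 : ((W (i + 1)).subgroupOf (W i)).index = p := h.relIndex i hi
    have h2 := Subgroup.pow_index_mem ((W (i + 1)).subgroupOf (W i)) ⟨x, hx⟩
    rw [h1] at h2
    exact h2
  · rw [h.bot_of_le hi, mem_bot] at hx
    rw [hx, one_pow]; exact one_mem _

/-- The power formula. -/
theorem power_formula (h : MC P p n W) [hp : Fact p.Prime] {j : ℕ} (hj : 1 ≤ j) {s x : P}
    (hx : x ∈ W j)
    (hs : ∀ b, 1 ≤ b → b ≤ p - 1 → (s ^ (b * p))⁻¹ * (s ^ b * x) ^ p ∈ W (j + p)) :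
    x ^ p ∈ W (j + p - 1) ∧ (x ^ p ∈ W (j + p) → (D s)^[p - 1] x ∈ W (j + p)) := by
  have hp2 := hp.out.two_le
  have hidx : j + (p - 1) + 1 = j + p := by omega
  have hnn := h.normal (j + p)
  have key := h.difs_Psi hj hx (s := s) (p - 1) p
  rw! (castMode := .all) [hidx] at key
  set q : P →* P ⧸ W (j + p) := QuotientGroup.mk' _ with hq
  have hqmem : ∀ a : P, q a = 1 ↔ a ∈ W (j + p) := by
    intro a
    rw [hq, QuotientGroup.mk'_apply, QuotientGroup.eq_one_iff]
  set X := (D s)^[p - 1] x with hX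
  have hXW : X ∈ W (j + (p - 1)) := h.Dl_mem hx _
  have hXp : q X ^ p = 1 := by
    rw [← map_pow, hqmem]
    have := h.pow_p_mem hXW
    rwa [hidx] at this
  -- the exponent
  have hexp : ∀ m, 1 ≤ m → m ≤ p → q X ^ (∑ i ∈ Finset.range m, i ^ (p - 1)) = q X ^ (m - 1) := by
    intro m hm1
    induction m, hm1 using Nat.le_induction with
    | base =>
      intro _
      rw [Finset.sum_range_one, zero_pow (by omega)]
      rfl
    | succ m hm ih =>
      intro hmp
      rw [Finset.sum_range_succ, pow_add, ih (by omega)]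
      have h1 : m ^ (p - 1) ≡ 1 [MOD p] := by
        have hcop : Nat.Coprime m p := by
          rw [Nat.coprime_comm, Nat.Prime.coprime_iff_not_dvd hp.out]
          exact Nat.not_dvd_of_pos_of_lt (by omega) (by omega)
        have := Nat.ModEq.pow_totient hcop
        rwa [Nat.totient_prime hp.out] at this
      have h2 : q X ^ (m ^ (p - 1)) = q X ^ 1 := by
        rw [pow_eq_pow_iff_modEq]
        exact h1.of_dvd (orderOf_dvd_of_pow_eq_one hXp)
      rw [h2, pow_one, ← pow_succ]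
      congr 1
      omega
  rw [hexp p (by omega) le_rfl] at key
  -- the left hand side
  have hPsi : ∀ b, q (Psi s x p b) = q ((s ^ (b * p))⁻¹ * (s ^ b * x) ^ p) := by
    intro b
    rw [mul_pow_eq, inv_mul_cancel_left]
  have h0 : q (Psi s x p 0) = q (x ^ p) := by
    rw [hPsi]; simp
  have hz := difs_zero (p - 1) (fun b => q (Psi s x p b)) (by
    intro b hb1 hb2
    rw [hPsi, hqmem]
    exact hs b hb1 hb2)
  have hd : dif^[p - 1] (fun b => q (Psi s x p b)) 0 = q (dif^[p - 1] (Psi s x p) 0) := by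
    rw [dif_map]
  rw [hd, key, h0] at hz
  have hle : W (j + p) ≤ W (j + p - 1) := h.antitone (by omega)
  have hpow : q X ^ (p - 1) = q (X ^ (p - 1)) := by rw [map_pow]
  have hXW' : X ∈ W (j + p - 1) := by rwa [show j + p - 1 = j + (p - 1) by omega]
  constructor
  · rcases hz with h1 | h1
    · rw [hpow] at h1
      have h2 : (X ^ (p - 1))⁻¹ * x ^ p ∈ W (j + p) := by
        rw [← hqmem, map_mul, map_inv, h1, inv_mul_cancel]
      have h3 := mul_mem (pow_mem hXW' (p - 1)) (hle h2)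
      rwa [mul_inv_cancel_left] at h3
    · rw [hpow] at h1
      have h2 : X ^ (p - 1) * x ^ p ∈ W (j + p) := by
        rw [← hqmem, map_mul, h1, inv_mul_cancel]
      have h3 := mul_mem (inv_mem (pow_mem hXW' (p - 1))) (hle h2)
      rwa [inv_mul_cancel_left] at h3
  · intro hxp
    rw [← hqmem] at hxp
    have h1 : q X ^ (p - 1) = 1 := by
      rcases hz with h1 | h1
      · rw [h1, hxp]
      · rw [h1, hxp, inv_one]
    have h2 : q X = 1 := by
      have h3 : q X ^ p = q X ^ (p - 1) * q X := by rw [← pow_succ]; congr 1; omega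
      rw [hXp, h1, one_mul] at h3
      exact h3.symm
    exact (hqmem X).mp h2

end MC

end Cfsg.Agent.H467.MaxClass
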