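import Cfsg.Agent.H467.OddNormRow

/-!
# Further criteria for `EvIn p S`, `Ev p S` (helper467, S3855)

* `EvIn.of_even`, `EvIn.even` : `EvIn p S` says that the Sylow normalisers have even order;
* `EvIn.of_surjective` : from an image of a subgroup of index prime to `p`; `EvIn.of_sub_index_two` : a subgroup of index
  two in a subgroup of index prime to `p`;
* `EvIn.of_comm` : abelian Sylow subgroups and a real element of order `p`;
* `Ev.of_stab` : a real element `z` of `S` with `p ∤ |Aut S : C_{Aut S}(z)|`;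
* `Ev.of_act` : a group `Γ` of automorphisms containing the `p`-part of `Out S`, whose elements of `p`-power order fix the
  real element `z`, `p ∤ |S : C_S(z)|`; `Ev.of_act_comm` : the same for abelian Sylow subgroups.
-/

set_option autoImplicit false

namespace Cfsg.Agent.H467.OddNorm

open Subgroup

universe u v

section Even

variable {S : Type u} [Group S] {p : ℕ}

theorem EvIn.of_even [Finite S] (P : Sylow p S) (h : 2 ∣ Nat.card ↥(normalizer ((P : Subgroup S) : Set S))) :
    EvIn p S := by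
  have : Fact (Nat.Prime 2) := ⟨Nat.prime_two⟩
  obtain ⟨t, ht⟩ := exists_prime_orderOf_dvd_card' 2 h
  exact ⟨P, t, by rw [Subgroup.orderOf_coe, ht], t.2⟩

theorem EvIn.even [Finite S] [Fact p.Prime] (h : EvIn p S) (Q : Sylow p S) :
    2 ∣ Nat.card ↥(normalizer ((Q : Subgroup S) : Set S)) := by
  obtain ⟨P, t, ht, hn⟩ := h
  obtain ⟨g, hg⟩ := MulAction.exists_smul_eq S P Q
  have h1 : g * t * g⁻¹ ∈ normalizer ((Q : Subgroup S) : Set S) := by
    refine Sylow.smul_eq_iff_mem_normalizer.1 ?_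
    rw [← hg, mul_smul, mul_smul, inv_smul_smul, Sylow.smul_eq_iff_mem_normalizer.2 hn]
  have h2 : orderOf (⟨g * t * g⁻¹, h1⟩ : ↥(normalizer ((Q : Subgroup S) : Set S))) = 2 := by
    rw [Subgroup.orderOf_mk, ← ht]
    exact orderOf_injective (MulAut.conj g).toMonoidHom (MulAut.conj g).injective t
  exact h2 ▸ orderOf_dvd_natCard _

/-- the normaliser of a Sylow subgroup of a quotient -/
theorem normalizer_quotient' [Finite S] [Fact p.Prime] (R : Sylow p S) (M : Subgroup S) [M.Normal] :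
    normalizer (((R : Subgroup S).map (QuotientGroup.mk' M) : Subgroup (S ⧸ M)) : Set (S ⧸ M)) ≤
      (normalizer ((R : Subgroup S) : Set S)).map (QuotientGroup.mk' M) := by
  intro xb hx
  obtain ⟨x, rfl⟩ := QuotientGroup.mk'_surjective M xb
  set K : Subgroup S := (R : Subgroup S) ⊔ M with hK
  have hcm : ((R : Subgroup S).map (QuotientGroup.mk' M)).comap (QuotientGroup.mk' M) = K := by
    rw [comap_map_eq, QuotientGroup.ker_mk']
  have hRK : (R : Subgroup S) ≤ K := le_sup_left
  have h2 : ((x • R : Sylow p S) : Subgroup S) ≤ K := by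
    rw [← hcm]
    rintro _ ⟨r, hr, rfl⟩
    rw [mem_comap]
    have h3 := (Subgroup.mem_normalizer_iff.1 hx (QuotientGroup.mk' M r)).1 ⟨r, hr, rfl⟩
    simpa using h3
  obtain ⟨k, hk⟩ := MulAction.exists_smul_eq K ((x • R : Sylow p S).subtype h2) (R.subtype hRK)
  rw [Sylow.smul_subtype] at hk
  have h3 := Sylow.subtype_injective hk
  have h4 : ((k : S) * x) ∈ normalizer ((R : Subgroup S) : Set S) := by
    refine Sylow.smul_eq_iff_mem_normalizer.1 ?_
    rw [mul_smul]
    exact h3
  have h5 : QuotientGroup.mk' M (k : S) ∈ (normalizer ((R : Subgroup S) : Set S)).map (QuotientGroup.mk' M) := by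
    have h6 : (k : S) ∈ ((R : Subgroup S).map (QuotientGroup.mk' M)).comap (QuotientGroup.mk' M) := by
      rw [hcm]; exact k.2
    exact map_mono le_normalizer h6
  have h6 : QuotientGroup.mk' M x = (QuotientGroup.mk' M (k : S))⁻¹ * QuotientGroup.mk' M ((k : S) * x) := by
    rw [map_mul]; group
  rw [h6]
  exact mul_mem (inv_mem h5) ⟨_, h4, rfl⟩

theorem EvIn.of_quotient [Finite S] [Fact p.Prime] (M : Subgroup S) [M.Normal] (h : EvIn p (S ⧸ M)) : EvIn p S := by
  obtain ⟨R⟩ : Nonempty (Sylow p S) := inferInstance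
  have h1 := h.even (R.mapSurjective (QuotientGroup.mk'_surjective M))
  refine EvIn.of_even R ?_
  exact h1.trans ((card_dvd_of_le (normalizer_quotient' R M)).trans (card_map_dvd _ _))

/-- **Images.** -/
theorem EvIn.of_surjective' [Finite S] [Fact p.Prime] {T : Type v} [Group T] (f : S →* T)
    (hf : Function.Surjective f) (h : EvIn p T) : EvIn p S := by
  have hfin : Finite T := Finite.of_surjective f hf
  exact EvIn.of_quotient f.ker (h.congr (QuotientGroup.quotientKerEquivOfSurjective f hf).symm)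

/-- **Sections.** `H` of index prime to `p`, `f : H → T` onto. -/
theorem EvIn.of_surjective [Finite S] [Fact p.Prime] {H : Subgroup S} (hi : ¬ p ∣ H.index) {T : Type v} [Group T]
    (f : H →* T) (hf : Function.Surjective f) (h : EvIn p T) : EvIn p S :=
  EvIn.of_subgroup hi (EvIn.of_surjective' f hf h)

theorem EvIn.of_hom_units [Finite S] [hp : Fact p.Prime] (hp2 : p ≠ 2) {H : Subgroup S} (hi : ¬ p ∣ H.index)
    (f : H →* ℤˣ) {x : H} (hx : f x ≠ 1) : EvIn p S := by
  refine EvIn.of_surjective hi f ?_ ?_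
  · intro y
    rcases Int.units_eq_one_or y with rfl | rfl
    · exact ⟨1, map_one f⟩
    · rcases Int.units_eq_one_or (f x) with h | h
      · exact absurd h hx
      · exact ⟨x, h⟩
  · obtain ⟨P⟩ : Nonempty (Sylow p ℤˣ) := inferInstance
    refine EvIn.of_even P ?_
    have h1 : (P : Subgroup ℤˣ) = ⊥ := by
      rw [eq_bot_iff]
      intro y hy
      rw [mem_bot]
      obtain ⟨k, hk⟩ := P.isPGroup' ⟨y, hy⟩
      have hk' : y ^ p ^ k = 1 := congrArg Subtype.val hk
      have h2 : y ^ 2 = 1 := Int.units_sq y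
      have h3 : orderOf y ∣ 1 := by
        have h4 : (p ^ k).Coprime 2 := Nat.Coprime.pow_left k ((Nat.coprime_primes hp.out Nat.prime_two).2 hp2)
        exact (Nat.dvd_gcd (orderOf_dvd_of_pow_eq_one hk') (orderOf_dvd_of_pow_eq_one h2)).trans (by rw [h4.gcd_eq_one])
      exact orderOf_eq_one_iff.1 (Nat.dvd_one.1 h3)
    have h2 : normalizer ((P : Subgroup ℤˣ) : Set ℤˣ) = ⊤ := by
      rw [h1]; exact normalizer_eq_top_iff.2 inferInstance
    rw [h2, card_top, Nat.card_eq_fintype_card, Fintype.card_units_int]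

/-- a subgroup of index two in a subgroup of index prime to `p` -/
theorem EvIn.of_sub_index_two [Finite S] [hp : Fact p.Prime] (hp2 : p ≠ 2) {H K : Subgroup S} (hi : ¬ p ∣ H.index)
    (hKH : K ≤ H) (h2 : K.relIndex H = 2) : EvIn p S := by
  obtain ⟨R⟩ : Nonempty (Sylow p H) := inferInstance
  have hP : IsPGroup p ↥((R : Subgroup H).map H.subtype) := R.isPGroup'.map _
  have hle : (R : Subgroup H).map H.subtype ≤ H := map_subtype_le _
  have hidx : ¬ p ∣ ((R : Subgroup H).map H.subtype).relIndex H := by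
    rw [relIndex, subgroupOf, comap_map_eq_self_of_injective H.subtype_injective]
    exact R.not_dvd_index
  have hPi : ¬ p ∣ ((R : Subgroup H).map H.subtype).index := by
    rw [← relIndex_mul_index hle]
    intro h3
    rcases (hp.out.dvd_mul).1 h3 with h3 | h3
    · exact hidx h3
    · exact hi h3
  have hPK : (R : Subgroup H).map H.subtype ≤ K := by
    rintro _ ⟨x, hx, rfl⟩
    obtain ⟨k, hk⟩ := R.isPGroup' ⟨x, hx⟩
    have hk' : x ^ p ^ k = 1 := congrArg Subtype.val hk
    obtain ⟨j, hj⟩ : Odd (p ^ k) := (hp.out.odd_of_ne_two hp2).pow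
    have h3 : (K.subgroupOf H).index = 2 := h2
    have h4 := Subgroup.sq_mem_of_index_two h3 x
    have h5 : (x ^ 2) ^ (j + 1) = x := by
      rw [← pow_mul]
      have : 2 * (j + 1) = p ^ k + 1 := by omega
      rw [this, pow_succ, hk', one_mul]
    have h6 : x ∈ K.subgroupOf H := by rw [← h5]; exact pow_mem h4 _
    exact h6
  obtain ⟨t, -, ht, htn⟩ := of_index_two hp2 (N := (⊤ : Subgroup S)) hP
    (fun h3 => hPi (h3.trans (relIndex_dvd_index_of_le le_sup_right))) hPK hKH (fun x _ => mem_sup_left (mem_top x)) h2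
  exact ⟨hP.toSylow hPi, t, ht, htn⟩

/-- **Abelian Sylow subgroups.** -/
theorem EvIn.of_comm [Finite S] [hp : Fact p.Prime] (hp2 : p ≠ 2)
    (hc : ∀ P : Sylow p S, ∀ x ∈ P, ∀ y ∈ P, x * y = y * x) {z g : S} (hz : z ≠ 1)
    (hzp : ∃ k : ℕ, z ^ p ^ k = 1) (hg : g * z * g⁻¹ = z⁻¹) : EvIn p S := by
  refine EvIn.of_real hp2 hz hzp ?_ hg
  exact not_dvd_index_of_comm hc hzp
where
  not_dvd_index_of_comm (hc : ∀ P : Sylow p S, ∀ x ∈ P, ∀ y ∈ P, x * y = y * x)
      (hzp : ∃ k : ℕ, z ^ p ^ k = 1) : ¬ p ∣ (centralizer ({z} : Set S)).index := by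
    have hpz : IsPGroup p ↥(zpowers z) := by
      obtain ⟨k, hk⟩ := hzp
      rintro ⟨_, j, rfl⟩
      refine ⟨k, ?_⟩
      apply Subtype.ext
      simp only [SubmonoidClass.coe_pow, OneMemClass.coe_one]
      rw [← zpow_natCast, ← zpow_mul, mul_comm, zpow_mul, zpow_natCast, hk, one_zpow]
    obtain ⟨P, hP⟩ := hpz.exists_le_sylow
    have h1 : (P : Subgroup S) ≤ centralizer ({z} : Set S) := fun x hx =>
      mem_centralizer_singleton_iff.2 (hc P x hx z (hP (mem_zpowers z)))
    intro h2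
    exact P.not_dvd_index (h2.trans (index_dvd_of_le h1))

end Even

section Stab

variable {S : Type u} [Group S] {p : ℕ}

/-- the stabiliser of `z` in `Aut S` -/
def stab (z : S) : Subgroup (MulAut S) where
  carrier := {α | α z = z}
  one_mem' := rfl
  mul_mem' := by
    intro a b ha hb
    show a (b z) = z
    rw [show b z = z from hb, show a z = z from ha]
  inv_mem' := by
    intro a ha
    show a⁻¹ z = z
    conv_lhs => rw [← show a z = z from ha]
    simp

theorem mem_stab {z : S} {α : MulAut S} : α ∈ stab z ↔ α z = z := Iff.rfl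

/-- A real element `z` whose stabiliser in `Aut S` has index prime to `p`. -/
theorem Ev.of_stab [Finite S] [hp : Fact p.Prime] (hp2 : p ≠ 2) (hZ : center S = ⊥) {z g : S} (hz : z ≠ 1)
    (hzp : ∃ k : ℕ, z ^ p ^ k = 1) (hi : ¬ p ∣ (stab z).index) (hg : g * z * g⁻¹ = z⁻¹) : Ev p S := by
  classical
  have hinj := conj_injective hZ
  set I : Subgroup (MulAut S) := (MulAut.conj : S →* MulAut S).range with hI
  obtain ⟨P0⟩ : Nonempty (Sylow p ↥(stab z)) := inferInstance
  set P : Subgroup (MulAut S) := (P0 : Subgroup ↥(stab z)).map (stab z).subtype with hP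
  have hPM : P ≤ stab z := map_subtype_le _
  have hPp : IsPGroup p ↥P := P0.isPGroup'.map _
  have hPi : ¬ p ∣ P.index := by
    rw [← relIndex_mul_index hPM, relIndex, hP, subgroupOf, comap_map_eq_self_of_injective (subtype_injective _)]
    intro h3
    rcases (hp.out.dvd_mul).1 h3 with h3 | h3
    · exact P0.not_dvd_index h3
    · exact hi h3
  have hcomm : ∀ x ∈ P, x * MulAut.conj z = MulAut.conj z * x := by
    intro x hx
    have h1 := conj_conj x z
    rw [mem_stab.1 (hPM hx)] at h1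
    calc x * MulAut.conj z = x * MulAut.conj z * x⁻¹ * x := by group
      _ = MulAut.conj z * x := by rw [h1]
  -- `conj z ∈ P`
  have hzP : MulAut.conj z ∈ P := by
    have hzC : MulAut.conj z ∈ stab z := by rw [mem_stab]; simp
    have hzn : MulAut.conj z ∈ normalizer (P : Set (MulAut S)) := by
      rw [mem_normalizer_iff]
      intro y
      constructor
      · intro hy
        rw [← hcomm y hy, mul_inv_cancel_right]; exact hy
      · intro hy
        have h1 := hcomm _ hy
        have h2 : y = (MulAut.conj z)⁻¹ * (MulAut.conj z * y * (MulAut.conj z)⁻¹) * MulAut.conj z := by group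
        have h3 : (MulAut.conj z)⁻¹ * (MulAut.conj z * y * (MulAut.conj z)⁻¹) * MulAut.conj z =
            MulAut.conj z * y * (MulAut.conj z)⁻¹ := by
          rw [mul_assoc, h1, inv_mul_cancel_left]
        rw [h2, h3]; exact hy
    obtain ⟨k, hk⟩ := hzp
    let PS : Sylow p (MulAut S) := hPp.toSylow hPi
    have h1 : IsPGroup p ↥(zpowers (MulAut.conj z)) := by
      rintro ⟨_, j, rfl⟩
      refine ⟨k, ?_⟩
      apply Subtype.ext
      simp only [SubmonoidClass.coe_pow, OneMemClass.coe_one]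
      rw [← zpow_natCast, ← zpow_mul, mul_comm, zpow_mul, zpow_natCast, ← map_pow, hk, map_one, one_zpow]
    have h2 : zpowers (MulAut.conj z) ≤ normalizer ((PS : Subgroup (MulAut S)) : Set (MulAut S)) := by
      rw [zpowers_le]; exact hzn
    have h3 : IsPGroup p ↥((PS : Subgroup (MulAut S)) ⊔ zpowers (MulAut.conj z) : Subgroup (MulAut S)) :=
      IsPGroup.to_sup_of_normal_left' PS.isPGroup' h1 h2
    have h4 := PS.is_maximal' h3 le_sup_left
    have h5 : MulAut.conj z ∈ (PS : Subgroup (MulAut S)) ⊔ zpowers (MulAut.conj z) := mem_sup_right (mem_zpowers _)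
    rw [h4] at h5
    exact h5
  obtain ⟨t', ht'I, ht'2, ht'n⟩ := Cfsg.Agent.H467.OddNorm.of_real hp2 (N := I) hPp
    (fun h3 => hPi (h3.trans (relIndex_dvd_index_of_le le_sup_right)))
    (z := MulAut.conj z) hzP hcomm (by
      intro h3
      exact hz (hinj (h3.trans (map_one _).symm))) (g := MulAut.conj g) (mem_sup_left ⟨_, rfl⟩) (by
      rw [← map_inv, ← map_mul, ← map_mul, hg, map_inv])
  obtain ⟨t, rfl⟩ := ht'I
  exact Ev.of_sub hPp hPi (by rw [← ht'2]; exact (orderOf_injective _ hinj t).symm) ht'n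

/-- `|A N : A| = |N : A ∩ N|` -/
theorem relIndex_sup_of_normal {G : Type*} [Group G] [Finite G] (A N : Subgroup G) [N.Normal] :
    A.relIndex (A ⊔ N) = A.relIndex N := by
  have h1 := relIndex_mul_relIndex (A ⊓ N) A (A ⊔ N) inf_le_left le_sup_left
  have h2 := relIndex_mul_relIndex (A ⊓ N) N (A ⊔ N) inf_le_right le_sup_right
  rw [inf_relIndex_left] at h1
  rw [inf_relIndex_right, relIndex_sup_right] at h2
  have h3 : N.relIndex A ≠ 0 := Subgroup.index_ne_zero_of_finite (H := N.subgroupOf A)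
  have h4 : N.relIndex A * A.relIndex (A ⊔ N) = N.relIndex A * A.relIndex N := by rw [h1, ← h2, mul_comm]
  exact Nat.eq_of_mul_eq_mul_left (Nat.pos_of_ne_zero h3) h4

/-- **A group of outer automorphisms.** `Γ` acts on `S` by `Ψ`, its elements of order `p` are outer, the `p`-part of
`|Out S|` divides `|Γ|`, and the elements of `p`-power order fix the real element `z`. -/
theorem Ev.of_act [Finite S] [hp : Fact p.Prime] (hp2 : p ≠ 2) (hZ : center S = ⊥) {Γ : Type*} [Group Γ] [Finite Γ]
    (Ψ : Γ →* MulAut S) (h1 : ∀ γ : Γ, orderOf γ = p → Ψ γ ∉ (MulAut.conj : S →* MulAut S).range)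
    (h2 : ∀ k : ℕ, p ^ k ∣ (MulAut.conj : S →* MulAut S).range.index → p ^ k ∣ Nat.card Γ) {z g : S} (hz : z ≠ 1)
    (hzp : ∃ k : ℕ, z ^ p ^ k = 1) (hfix : ∀ γ : Γ, (∃ k : ℕ, γ ^ p ^ k = 1) → Ψ γ z = z)
    (hi : ¬ p ∣ (centralizer ({z} : Set S)).index) (hg : g * z * g⁻¹ = z⁻¹) : Ev p S := by
  classical
  have hinj := conj_injective hZ
  set I : Subgroup (MulAut S) := (MulAut.conj : S →* MulAut S).range with hI
  refine Ev.of_stab hp2 hZ hz hzp ?_ hg
  obtain ⟨R⟩ : Nonempty (Sylow p Γ) := inferInstance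
  -- `Ψ R ≤ stab z`
  have hR : (R : Subgroup Γ).map Ψ ≤ stab z := by
    rintro _ ⟨γ, hγ, rfl⟩
    obtain ⟨k, hk⟩ := R.isPGroup' ⟨γ, hγ⟩
    exact hfix γ ⟨k, congrArg Subtype.val hk⟩
  -- `|stab z I : stab z| = |I : I ∩ stab z| = |S : C_S(z)|`
  have e1 : (stab z).relIndex (stab z ⊔ I) = (centralizer ({z} : Set S)).index := by
    rw [relIndex_sup_of_normal]
    have e2 : (stab z).comap (MulAut.conj : S →* MulAut S) = centralizer ({z} : Set S) := by
      ext x
      rw [mem_comap, mem_stab, mem_centralizer_singleton_iff, MulAut.conj_apply, mul_inv_eq_iff_eq_mul]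
    rw [← e2, index_comap]
  -- the index of `stab z I`
  have e3 : ¬ p ∣ (stab z ⊔ I).index := by
    have h3 : ¬ p ∣ ((R : Subgroup Γ).map Ψ ⊔ I).index := by
      intro hdv
      -- `|Ψ R : Ψ R ∩ I| = |R|`
      have h4 : Nat.card ↥(R : Subgroup Γ) = I.relIndex ((R : Subgroup Γ).map Ψ) := by
        have h5 : (I.comap Ψ ⊓ (R : Subgroup Γ)) = ⊥ := by
          by_contra hne
          have hnt : Nontrivial ↥(I.comap Ψ ⊓ (R : Subgroup Γ)) := (Subgroup.nontrivial_iff_ne_bot _).2 hne
          have hpg : IsPGroup p ↥(I.comap Ψ ⊓ (R : Subgroup Γ)) := R.isPGroup'.to_le inf_le_right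
          obtain ⟨k, hk⟩ := IsPGroup.iff_card.1 hpg
          have hk0 : k ≠ 0 := by
            rintro rfl
            rw [pow_zero] at hk
            exact absurd (Finite.one_lt_card (α := ↥(I.comap Ψ ⊓ (R : Subgroup Γ)))) (by rw [hk]; omega)
          obtain ⟨⟨c, hc⟩, hco⟩ := exists_prime_orderOf_dvd_card' (G := ↥(I.comap Ψ ⊓ (R : Subgroup Γ))) p
            (by rw [hk]; exact dvd_pow_self p hk0)
          rw [Subgroup.orderOf_mk] at hco
          exact h1 c hco hc.1
        have h6 : I.relIndex ((R : Subgroup Γ).map Ψ) = (I.comap Ψ).relIndex (R : Subgroup Γ) := by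
          rw [relIndex_comap]
        rw [h6, ← inf_relIndex_right, h5, relIndex_bot_left]
      obtain ⟨k, hk⟩ := IsPGroup.iff_card.1 R.isPGroup'
      have h7 : p ^ (k + 1) ∣ I.index := by
        have h8 := relIndex_mul_index (le_sup_right : I ≤ (R : Subgroup Γ).map Ψ ⊔ I)
        rw [relIndex_sup_right, ← h4, hk] at h8
        rw [← h8, pow_succ]
        exact mul_dvd_mul dvd_rfl hdv
      have h9 := h2 _ h7
      have h10 : ¬ p ^ (k + 1) ∣ Nat.card Γ := by
        intro h11
        have h12 := R.card_mul_index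
        rw [← h12, hk, pow_succ] at h11
        exact R.not_dvd_index (Nat.dvd_of_mul_dvd_mul_left (pow_pos hp.out.pos _) h11)
      exact h10 h9
    intro h4
    exact h3 (h4.trans (index_dvd_of_le (sup_le_sup hR le_rfl)))
  rw [← relIndex_mul_index (le_sup_left : stab z ≤ stab z ⊔ I), e1]
  intro h5
  rcases (hp.out.dvd_mul).1 h5 with h5 | h5
  · exact hi h5
  · exact e3 h5

/-- the same for abelian Sylow subgroups -/
theorem Ev.of_act_comm [Finite S] [hp : Fact p.Prime] (hp2 : p ≠ 2) (hZ : center S = ⊥) {Γ : Type*} [Group Γ]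
    [Finite Γ] (Ψ : Γ →* MulAut S) (h1 : ∀ γ : Γ, orderOf γ = p → Ψ γ ∉ (MulAut.conj : S →* MulAut S).range)
    (h2 : ∀ k : ℕ, p ^ k ∣ (MulAut.conj : S →* MulAut S).range.index → p ^ k ∣ Nat.card Γ)
    (hc : ∀ P : Sylow p S, ∀ x ∈ P, ∀ y ∈ P, x * y = y * x) {z g : S} (hz : z ≠ 1)
    (hzp : ∃ k : ℕ, z ^ p ^ k = 1) (hfix : ∀ γ : Γ, (∃ k : ℕ, γ ^ p ^ k = 1) → Ψ γ z = z)
    (hg : g * z * g⁻¹ = z⁻¹) : Ev p S :=
  Ev.of_act hp2 hZ Ψ h1 h2 hz hzp hfix (EvIn.of_comm.not_dvd_index_of_comm hc hzp) hg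

end Stab

end Cfsg.Agent.H467.OddNorm
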