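import Cfsg.Agent.H467.OddNormRed
import Cfsg.Agent.H566.Main

/-!
# The hypothesis `RichAll` of the reduction of S3855 (helper467)
-/

set_option autoImplicit false

namespace Cfsg.Agent.H467.OddNormRed

universe u

/-- coprime groups of automorphisms of simple groups have fixed points of even order (S0000) -/
theorem richAll (hK : Cfsg.Agent.H566.KnownAll.{u}) : RichAll.{u} := fun S _ _ _ hna A hcop =>
  (Cfsg.Agent.H566.rich_aut hK (G := S) (fun h => hna (IsSimpleGroup.comm_iff_isSolvable.2 h)) A hcop).2

end Cfsg.Agent.H467.OddNormRed
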