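import Cfsg.Agent.H786.TwoTr

/-!
# Conjugate transvections generate a plane (helper467; step (W3) of S5267)

`Γ` with a strongly embedded subgroup `H` acts on the abelian group `A`, `z` induces a transvection whose centre is
invariant under `H`, and `A` is generated by the conjugates of the centre. Then `A` is generated by two of them.
-/

set_option autoImplicit false

namespace Cfsg.Agent.H467.XThree

open Subgroup Cfsg.Agent.H785 Cfsg.Agent.H786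

variable {Γ : Type*} [Group Γ] [Finite Γ] {p : ℕ} [hp : Fact p.Prime] {H R : Subgroup Γ}
  {A : Type*} [CommGroup A] [Finite A] {ρ : Γ →* MulAut A}

/-- all lines of the plane are conjugate to the centre -/
theorem lines (h : SE p H R) (hρ : ρ.ker ≤ H) {z : Γ} (hz : z ∈ H) (hzp : IsPGroup p (zpowers z))
    (hcard : Nat.card (com (ρ z)) = p) (hcf : com (ρ z) ≤ fix (ρ z)) {g : Γ} (hg : g ∉ H) {x : A}
    (hx : x ∈ com (ρ z) ⊔ com (ρ (g * z * g⁻¹))) : ∃ γ : Γ, ρ γ x ∈ com (ρ z) := by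
  have htw := h.tw hρ hz hzp hcard hcf hg
  by_cases hx' : x ∈ com (ρ (g * z * g⁻¹))
  · rw [map_mul, map_mul, map_inv, mem_com_conj] at hx'
    exact ⟨g⁻¹, by rw [map_inv]; exact hx'⟩
  · obtain ⟨m, hm⟩ := htw.exists_move hx hx'
    exact ⟨(g * z * g⁻¹) ^ m, by rw [map_zpow]; exact hm⟩

theorem plane (h : SE p H R) (hρ : ρ.ker ≤ H) {z : Γ} (hz : z ∈ H) (hzp : IsPGroup p (zpowers z))
    (hcard : Nat.card (com (ρ z)) = p) (hcf : com (ρ z) ≤ fix (ρ z))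
    (hH : ∀ h ∈ H, ∀ x ∈ com (ρ z), ρ h x ∈ com (ρ z))
    (hgen : ∀ U : Subgroup A, (∀ g : Γ, ∀ x ∈ com (ρ z), ρ g x ∈ U) → U = ⊤)
    {g : Γ} (hg : g ∉ H) : com (ρ z) ⊔ com (ρ (g * z * g⁻¹)) = ⊤ := by
  have htw := h.tw hρ hz hzp hcard hcf hg
  apply hgen
  intro g2 x hx
  by_contra hcon
  set U := com (ρ z) ⊔ com (ρ (g * z * g⁻¹)) with hU
  have hconj : ∀ (g : Γ) (y : A), y ∈ com (ρ (g * z * g⁻¹)) ↔ ρ g⁻¹ y ∈ com (ρ z) := by
    intro g y
    rw [map_mul, map_mul, map_inv, mem_com_conj]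
  -- `g1 = g⁻¹ g2` moves the centre
  have hg1 : g⁻¹ * g2 ∉ H := by
    intro h1
    apply hcon
    apply (le_sup_right : com (ρ (g * z * g⁻¹)) ≤ U)
    rw [hconj]
    have h2 := hH _ h1 x hx
    rwa [map_mul, MulAut.mul_apply] at h2
  have hnt : Nontrivial (com (ρ (g * z * g⁻¹))) := by
    rw [← Finite.one_lt_card_iff_nontrivial, htw.cs']
    exact hp.out.one_lt
  obtain ⟨⟨y, hy⟩, hy1⟩ := exists_ne (1 : com (ρ (g * z * g⁻¹)))
  have hy1' : y ≠ 1 := fun e => hy1 (Subtype.ext e)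
  have hd : del (ρ z) y ≠ 1 := fun e => hy1' (htw.inf' y hy e)
  obtain ⟨m, hm⟩ := exists_zpow_eq hcard (del_mem_com (ρ z) y) hd
    (inv_mem (del_mem_com (ρ z) (ρ g2 x)))
  have hxf : ρ g2 x * y ^ m ∈ fix (ρ z) := by
    show del (ρ z) (ρ g2 x * y ^ m) = 1
    rw [map_mul, map_zpow, hm, mul_inv_cancel]
  have hyU : y ^ m ∈ com (ρ (g * z * g⁻¹)) := zpow_mem hy m
  have hx1 : ρ g2 x * y ^ m ≠ 1 := by
    intro e
    apply hcon
    apply (le_sup_right : com (ρ (g * z * g⁻¹)) ≤ U)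
    rw [eq_inv_of_mul_eq_one_left e]
    exact inv_mem hyU
  -- conjugate into the centre
  obtain ⟨γ, hγ⟩ : ∃ γ : Γ, ρ γ (ρ g2 x * y ^ m) ∈ com (ρ z) := by
    have h1 : ρ g⁻¹ (ρ g2 x * y ^ m) ∈ com (ρ z) ⊔ com (ρ (g⁻¹ * g2 * z * (g⁻¹ * g2)⁻¹)) := by
      rw [map_mul (ρ g⁻¹)]
      apply mul_mem
      · apply (le_sup_right : com (ρ (g⁻¹ * g2 * z * (g⁻¹ * g2)⁻¹)) ≤ _)
        rw [hconj, mul_inv_rev, inv_inv, map_mul, MulAut.mul_apply, map_inv ρ g, MulAut.apply_inv_self,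
          map_inv ρ g2, MulAut.inv_apply_self]
        exact hx
      · apply (le_sup_left : com (ρ z) ≤ _)
        exact (hconj g _).mp hyU
    obtain ⟨γ, hγ⟩ := lines h hρ hz hzp hcard hcf hg1 h1
    exact ⟨γ * g⁻¹, by rw [map_mul ρ, MulAut.mul_apply]; exact hγ⟩
  have h3 : ρ g2 x * y ^ m ∈ com (ρ z) := by
    by_cases hγH : γ⁻¹ ∈ H
    · have h1 := hH _ hγH _ hγ
      rwa [map_inv, MulAut.inv_apply_self] at h1
    · exfalso
      apply hx1
      apply (h.tw hρ hz hzp hcard hcf hγH).inf' _ _ hxf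
      rw [hconj, inv_inv]
      exact hγ
  apply hcon
  have h4 : ρ g2 x = (ρ g2 x * y ^ m) * (y ^ m)⁻¹ := by rw [mul_inv_cancel_right]
  rw [h4]
  exact mul_mem ((le_sup_left : com (ρ z) ≤ U) h3) (inv_mem ((le_sup_right : _ ≤ U) hyU))

/-- in a plane the axis is the centre -/
theorem fix_le_com (h : SE p H R) (hρ : ρ.ker ≤ H) {z : Γ} (hz : z ∈ H) (hzp : IsPGroup p (zpowers z))
    (hcard : Nat.card (com (ρ z)) = p) (hcf : com (ρ z) ≤ fix (ρ z)) {g : Γ} (hg : g ∉ H)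
    (htop : com (ρ z) ⊔ com (ρ (g * z * g⁻¹)) = ⊤) : fix (ρ z) ≤ com (ρ z) := by
  have htw := h.tw hρ hz hzp hcard hcf hg
  intro x hx
  have hxt : x ∈ com (ρ z) ⊔ com (ρ (g * z * g⁻¹)) := by rw [htop]; trivial
  obtain ⟨y, hy, w, hw, rfl⟩ := mem_sup.mp hxt
  have hw' : w ∈ fix (ρ z) := ((fix (ρ z)).mul_mem_cancel_left (hcf hy)).mp hx
  rw [htw.inf' w hw hw', mul_one]
  exact hy

end Cfsg.Agent.H467.XThree
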