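import Cfsg.Agent.H786.XData
import Cfsg.Agent.H786.TwoTr
import Cfsg.Agent.H786.SupKer
import Cfsg.Agent.H467.DegUnif

/-!
# The group of outer automorphisms in the exceptional core configuration (helper467; step (W3) of S5267)

`Gam B = B / Inn E`, its action on the invariant subgroups centralised by `E`, and the strongly embedded subgroup.
-/

set_option autoImplicit false

namespace Cfsg.Agent.H467.XThree

open Subgroup Cfsg.Agent.H467.MaxClass Cfsg.Agent.H785 Cfsg.Agent.H786
open scoped commutatorElement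

universe u

variable {P : Type u} [Group P] {E : Subgroup P}

/-- the inner automorphisms in `B` -/
def innB (B : Subgroup (MulAut E)) : Subgroup B := ((MulAut.conj : E →* MulAut E).range).subgroupOf B

instance innRange_normal : ((MulAut.conj : E →* MulAut E).range).Normal := by
  refine ⟨?_⟩
  rintro _ ⟨e, rfl⟩ g
  refine ⟨g e, ?_⟩
  apply MulEquiv.ext
  intro x
  rw [MulAut.mul_apply, MulAut.mul_apply, MulAut.conj_apply, MulAut.conj_apply, map_mul, map_mul, map_inv,
    MulAut.apply_inv_self]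

instance innB_normal (B : Subgroup (MulAut E)) : (innB B).Normal := by
  unfold innB
  infer_instance

/-- `B / Inn E` -/
abbrev Gam (B : Subgroup (MulAut E)) : Type u := ↥B ⧸ innB B

instance finiteMulAut [Finite P] : Finite (MulAut E) :=
  Finite.of_injective (fun f : MulAut E => (f : E → E)) DFunLike.coe_injective

/-- the automorphism of `U` induced by `g` -/
def resAut {B : Subgroup (MulAut E)} {U : Subgroup P} (hUE : U ≤ E) (hU : ZInv B U) (g : B) : MulAut U where
  toFun u := ⟨(((g : MulAut E) ⟨u, hUE u.2⟩ : E) : P), hU g g.2 _ u.2⟩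
  invFun u := ⟨(((g⁻¹ : MulAut E) ⟨u, hUE u.2⟩ : E) : P), hU _ (inv_mem g.2) _ u.2⟩
  left_inv u := by
    apply Subtype.ext
    show (((g⁻¹ : MulAut E) ((g : MulAut E) ⟨u, hUE u.2⟩) : E) : P) = u
    rw [MulAut.inv_apply_self]
  right_inv u := by
    apply Subtype.ext
    show (((g : MulAut E) ((g⁻¹ : MulAut E) ⟨u, hUE u.2⟩) : E) : P) = u
    rw [MulAut.apply_inv_self]
  map_mul' u v := by
    apply Subtype.ext
    show (((g : MulAut E) (⟨u, hUE u.2⟩ * ⟨v, hUE v.2⟩) : E) : P) = _
    rw [map_mul]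
    rfl

theorem resAut_apply {B : Subgroup (MulAut E)} {U : Subgroup P} (hUE : U ≤ E) (hU : ZInv B U) (g : B) (u : U) :
    ((resAut hUE hU g u : U) : P) = (((g : MulAut E) ⟨u, hUE u.2⟩ : E) : P) := rfl

/-- the action of `B` on `U` -/
def resHom {B : Subgroup (MulAut E)} {U : Subgroup P} (hUE : U ≤ E) (hU : ZInv B U) : ↥B →* MulAut U where
  toFun g := resAut hUE hU g
  map_one' := rfl
  map_mul' _ _ := rfl

/-- the action of `B / Inn E` on `U` -/
def rho {B : Subgroup (MulAut E)} {U : Subgroup P} (hUE : U ≤ E) (hU : ZInv B U)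
    (hc : ∀ u ∈ U, ∀ e ∈ E, Commute e u) : Gam B →* MulAut U :=
  QuotientGroup.lift (innB B) (resHom hUE hU) (by
    rintro ⟨g, hg⟩ hgi
    obtain ⟨e, he⟩ := mem_subgroupOf.mp hgi
    apply MulEquiv.ext
    intro u
    apply Subtype.ext
    show ((g ⟨u, hUE u.2⟩ : E) : P) = u
    have he' : MulAut.conj e = g := he
    rw [← he', MulAut.conj_apply]
    show (e : P) * u * (e : P)⁻¹ = u
    rw [(hc u u.2 e e.2).eq, mul_inv_cancel_right])

theorem rho_mk {B : Subgroup (MulAut E)} {U : Subgroup P} (hUE : U ≤ E) (hU : ZInv B U)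
    (hc : ∀ u ∈ U, ∀ e ∈ E, Commute e u) (g : B) (u : U) :
    ((rho hUE hU hc (QuotientGroup.mk' (innB B) g) u : U) : P) = (((g : MulAut E) ⟨u, hUE u.2⟩ : E) : P) := rfl

/-- the homomorphism `N_P(E) → B / Inn E` -/
def tau {B : Subgroup (MulAut E)} (hB : ∀ s, E.normalizerMonoidHom s ∈ B) : (normalizer (E : Set P)) →* Gam B :=
  (QuotientGroup.mk' (innB B)).comp (E.normalizerMonoidHom.codRestrict B hB)

theorem nmh_apply (s : normalizer (E : Set P)) (e : E) :
    ((E.normalizerMonoidHom s e : E) : P) = (s : P) * (e : P) * (s : P)⁻¹ := rfl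

theorem tau_mk {B : Subgroup (MulAut E)} (hB : ∀ s, E.normalizerMonoidHom s ∈ B) (s : normalizer (E : Set P)) :
    tau hB s = QuotientGroup.mk' (innB B) ⟨E.normalizerMonoidHom s, hB s⟩ := rfl

theorem rho_tau {B : Subgroup (MulAut E)} (hB : ∀ s, E.normalizerMonoidHom s ∈ B) {U : Subgroup P} (hUE : U ≤ E)
    (hU : ZInv B U) (hc : ∀ u ∈ U, ∀ e ∈ E, Commute e u) (s : normalizer (E : Set P)) (u : U) :
    ((rho hUE hU hc (tau hB s) u : U) : P) = (s : P) * (u : P) * (s : P)⁻¹ := rfl

/-- equality in `B / Inn E` -/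
theorem mk_eq_iff {B : Subgroup (MulAut E)} {g h : B} :
    QuotientGroup.mk' (innB B) g = QuotientGroup.mk' (innB B) h ↔ ∃ e : E, (h : MulAut E) = g * MulAut.conj e := by
  rw [QuotientGroup.mk'_eq_mk']
  constructor
  · rintro ⟨z, hz, e1⟩
    obtain ⟨e, he⟩ := mem_subgroupOf.mp hz
    refine ⟨e, ?_⟩
    have he' : MulAut.conj e = (z : MulAut E) := he
    rw [← e1, he']
    rfl
  · rintro ⟨e, he⟩
    refine ⟨g⁻¹ * h, ?_, mul_inv_cancel_left _ _⟩
    rw [innB, mem_subgroupOf]
    refine ⟨e, ?_⟩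
    rw [Subgroup.coe_mul, Subgroup.coe_inv, he, inv_mul_cancel_left]

/-- the elements of `E` as elements of the normalizer -/
def ofE (e : E) : normalizer (E : Set P) := ⟨e, le_normalizer e.2⟩

theorem nmh_ofE (e : E) : E.normalizerMonoidHom (ofE e) = MulAut.conj e := by
  apply MulEquiv.ext
  intro x
  rfl

variable {p n : ℕ} {W : ℕ → Subgroup P} [hW1 : (W 1).Normal] {A : Subgroup (MulAut (W 1))}
  {B H : Subgroup (MulAut E)}

theorem mem_B (c : CfgX p n W A E B H) (s : normalizer (E : Set P)) : E.normalizerMonoidHom s ∈ B :=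
  c.H_le (c.conj_mem s)

theorem conj_H (c : CfgX p n W A E B H) (e : E) : MulAut.conj e ∈ H := by
  rw [← nmh_ofE]
  exact c.conj_mem _

/-- the image of `H` -/
def Hbar (B H : Subgroup (MulAut E)) : Subgroup (Gam B) := (H.subgroupOf B).map (QuotientGroup.mk' (innB B))

theorem mk_mem_Hbar (c : CfgX p n W A E B H) {g : B} :
    QuotientGroup.mk' (innB B) g ∈ Hbar B H ↔ (g : MulAut E) ∈ H := by
  constructor
  · rintro ⟨h, hh, e⟩
    obtain ⟨x, hx⟩ := mk_eq_iff.mp e
    rw [hx]
    exact mul_mem (mem_subgroupOf.mp hh) (conj_H c x)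
  · intro h
    exact ⟨g, mem_subgroupOf.mpr h, rfl⟩

theorem tau_eq_one (c : CfgX p n W A E B H) {s : normalizer (E : Set P)} :
    tau (mem_B c) s = 1 ↔ (s : P) ∈ E := by
  have h1 : tau (mem_B c) s = 1 ↔ ∃ e : E, (E.normalizerMonoidHom s : MulAut E) = MulAut.conj e := by
    have h2 : (1 : Gam B) = QuotientGroup.mk' (innB B) 1 := (map_one _).symm
    rw [tau_mk, h2, eq_comm, mk_eq_iff]
    simp only [Subgroup.coe_one, one_mul]
  rw [h1]
  constructor
  · rintro ⟨e, he⟩
    have h3 : (e : P)⁻¹ * s ∈ E := by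
      apply c.cent
      intro x hx
      have h4 := congrArg (fun f : MulAut E => ((f ⟨x, hx⟩ : E) : P)) he
      have h5 : (s : P) * x * (s : P)⁻¹ = (e : P) * x * (e : P)⁻¹ := h4
      have h6 : (s : P) * x = (e : P) * x * (e : P)⁻¹ * s := by rw [← h5]; group
      show (e : P)⁻¹ * s * x = x * ((e : P)⁻¹ * s)
      rw [mul_assoc, h6]
      group
    have h4 := mul_mem e.2 h3
    rwa [mul_inv_cancel_left] at h4
  · intro h
    refine ⟨⟨s, h⟩, ?_⟩
    rw [← nmh_ofE]
    rfl

theorem se [Finite P] [Fact p.Prime] (c : CfgX p n W A E B H) : SE p (Hbar B H) (tau (mem_B c)).range where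
  le := by
    rintro _ ⟨s, rfl⟩
    rw [tau_mk, mk_mem_Hbar c]
    exact c.conj_mem s
  pgroup := by
    have h1 : IsPGroup p P := IsPGroup.of_card c.mc.card_group
    exact (h1.to_subgroup _).of_surjective (tau (mem_B c)).rangeRestrict (MonoidHom.rangeRestrict_surjective _)
  index := by
    intro hd
    apply c.sylowB
    have h1 : (tau (mem_B c)).range = ((E.normalizerMonoidHom.range).subgroupOf B).map (QuotientGroup.mk' (innB B)) := by
      ext x
      constructor
      · rintro ⟨s, rfl⟩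
        exact ⟨⟨E.normalizerMonoidHom s, mem_B c s⟩, mem_subgroupOf.mpr ⟨s, rfl⟩, rfl⟩
      · rintro ⟨⟨g, hg⟩, hg', rfl⟩
        obtain ⟨s, hs⟩ := mem_subgroupOf.mp hg'
        refine ⟨s, ?_⟩
        rw [tau_mk]
        congr 1
        exact Subtype.ext hs
    rw [h1] at hd
    exact hd.trans (index_map_dvd _ (QuotientGroup.mk'_surjective _))
  emb := by
    rintro g hg _ ⟨s, rfl⟩ hs
    obtain ⟨g, rfl⟩ := QuotientGroup.mk'_surjective (innB B) g
    rw [mk_mem_Hbar c] at hg
    rw [tau_mk, ← map_inv, ← map_mul, ← map_mul, mk_mem_Hbar c] at hs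
    rw [tau_eq_one c]
    exact c.emb g g.2 hg s hs
  ne := by
    intro h
    apply c.H_ne
    apply le_antisymm c.H_le
    intro g hg
    have h1 : QuotientGroup.mk' (innB B) ⟨g, hg⟩ ∈ Hbar B H := by rw [h]; trivial
    exact (mk_mem_Hbar c).mp h1

end Cfsg.Agent.H467.XThree
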