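import Cfsg.Agent.H467.XVZero

/-!
# Step (W3) of the exceptional case of S5267 (helper467)
-/

set_option autoImplicit false

namespace Cfsg.Agent.H467.XThree

open Subgroup Cfsg.Agent.H467.MaxClass Cfsg.Agent.H785 Cfsg.Agent.H786
open scoped commutatorElement

universe u

variable {P : Type u} [Group P] {E : Subgroup P} {p n : ℕ} {W : ℕ → Subgroup P} [hW1 : (W 1).Normal]
  {A : Subgroup (MulAut (W 1))} {B H : Subgroup (MulAut E)}

theorem mem_norm (c : CfgX p n W A E B H) {j : ℕ} (hE : ⁅W j, W 1⁆ ≤ E) {s : P} (hs : s ∈ W j) :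
    s ∈ normalizer (E : Set P) := by
  have key : ∀ s ∈ W j, ∀ e ∈ E, s * e * s⁻¹ ∈ E := by
    intro s hs e he
    have h1 : ⁅s, e⁆ ∈ E := hE (commutator_mem_commutator hs (c.E_le he))
    have e1 : s * e * s⁻¹ = ⁅s, e⁆ * e := by simp only [commutatorElement_def]; group
    rw [e1]
    exact mul_mem h1 he
  rw [mem_normalizer_iff]
  intro e
  refine ⟨fun he => key s hs e he, fun he => ?_⟩
  have := key s⁻¹ (inv_mem hs) _ he
  have e2 : s⁻¹ * (s * e * s⁻¹) * s⁻¹⁻¹ = e := by group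
  rwa [e2] at this

variable [Finite P] [hp : Fact p.Prime]

omit [Finite P] hp in
/-- the index `a` of the invariant subgroup generated by the centre -/
theorem exists_a (c : CfgX p n W A E B H) (h : ¬ ZInv B (W (n - 1))) :
    ∃ a, 1 ≤ a ∧ a + 2 ≤ n ∧ vz B (W (n - 1)) ≤ W a ∧ ∃ v ∈ vz B (W (n - 1)), v ∉ W (a + 1) := by
  classical
  have h4 := c.mc.four_le
  have hUom : vz B (W (n - 1)) ≤ om E p := vz_le_om (Z_le c)
  have hUW1 : vz B (W (n - 1)) ≤ W 1 := fun u hu => c.E_le (hUom hu).1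
  have hZU : W (n - 1) ≤ vz B (W (n - 1)) := le_vz fun x hx => (Z_le c hx).1
  have hlast : ¬ vz B (W (n - 1)) ≤ W (n - 2 + 1) := by
    intro hle
    apply h
    rw [show n - 2 + 1 = n - 1 by omega] at hle
    rw [le_antisymm hZU hle]
    exact vz_inv B _
  have hex : ∃ j, ¬ vz B (W (n - 1)) ≤ W (j + 1) := ⟨n - 2, hlast⟩
  have h1 : ¬ vz B (W (n - 1)) ≤ W (Nat.find hex + 1) := Nat.find_spec hex
  have ha1 : 1 ≤ Nat.find hex := by
    by_contra h0
    have h2 : Nat.find hex = 0 := by omega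
    rw [h2] at h1
    exact h1 hUW1
  have han : Nat.find hex ≤ n - 2 := Nat.find_min' hex hlast
  refine ⟨Nat.find hex, ha1, by omega, ?_, ?_⟩
  · have := Nat.find_min hex (m := Nat.find hex - 1) (by omega)
    rw [not_not, show Nat.find hex - 1 + 1 = Nat.find hex by omega] at this
    exact this
  · by_contra hcon
    push Not at hcon
    exact h1 hcon

omit [Finite P] hp in
/-- the least `t` with `W t ≤ E` -/
theorem exists_t (c : CfgX p n W A E B H) : ∃ t, 2 ≤ t ∧ t + 1 ≤ n ∧ W t ≤ E ∧ ∃ z ∈ W (t - 1), z ∉ E := by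
  classical
  have h4 := c.mc.four_le
  have hZE : W (n - 1) ≤ E := fun x hx => (Z_le c hx).1
  have hex : ∃ j, W j ≤ E := ⟨n - 1, hZE⟩
  have h1 : W (Nat.find hex) ≤ E := Nat.find_spec hex
  have h2 : Nat.find hex ≤ n - 1 := Nat.find_min' hex hZE
  have h3 : 2 ≤ Nat.find hex := by
    by_contra h0
    have h5 : W 1 ≤ E := (c.mc.antitone (by omega)).trans h1
    exact c.E_ne (le_antisymm c.E_le h5)
  refine ⟨Nat.find hex, h3, by omega, h1, ?_⟩
  have := Nat.find_min hex (m := Nat.find hex - 1) (by omega)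
  by_contra hcon
  push Not at hcon
  exact this hcon

/-- **Step (W3).** -/
theorem exists_xdata (c : CfgX p n W A E B H) (h : ¬ ZInv B (W (n - 1))) :
    ∃ (a t l : ℕ) (v z : P) (k : MulAut E), XData p n W E B H a t l v z k := by
  classical
  have hp5 := c.five
  have hp3 : 3 ≤ p := by omega
  obtain ⟨-, h6, -⟩ := six_le c.mc hp3 c.exc
  have hpP : IsPGroup p P := IsPGroup.of_card c.mc.card_group
  obtain ⟨a, ha1, han, hUa, v, hvU, hva⟩ := exists_a c h
  obtain ⟨t, ht2, htn, hWtE, z, hzW, hzE⟩ := exists_t c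
  have hZE : W (n - 1) ≤ E := fun x hx => (Z_le c hx).1
  have hZU : W (n - 1) ≤ vz B (W (n - 1)) := le_vz hZE
  have hUinv : ZInv B (vz B (W (n - 1))) := vz_inv B _
  have hUgen : ∀ X : Subgroup P, (∀ g ∈ B, ∀ e : E, (e : P) ∈ W (n - 1) → ((g e : E) : P) ∈ X) →
      vz B (W (n - 1)) ≤ X := by
    intro X hX
    rw [vz, Subgroup.closure_le]
    rintro _ ⟨g, hg, e, he, rfl⟩
    exact hX g hg e he
  have hUom : vz B (W (n - 1)) ≤ om E p := vz_le_om (Z_le c)
  generalize vz B (W (n - 1)) = U at hUa hvU hZU hUinv hUgen hUom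
  have hUE : U ≤ E := fun u hu => (hUom hu).1
  have hUc : ∀ u ∈ U, ∀ e ∈ E, Commute e u := fun u hu => (hUom hu).2.1
  have hUp : ∀ u ∈ U, u ^ p = 1 := fun u hu => (hUom hu).2.2
  have hUcomm : ∀ u ∈ U, ∀ w ∈ U, Commute u w := fun u hu w hw => hUc w hw u (hUE hu)
  have hcent : ∀ s : P, (∀ u ∈ U, Commute s u) → s ∈ E := fun s hs =>
    mem_E_of_cent c h hUE hUinv hUc hZU hs
  have hzt : z ∉ W t := fun hz => hzE (hWtE hz)
  -- `a + t = n`
  have hat : n ≤ a + t := by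
    by_contra hcon
    obtain ⟨s, hs, hs'⟩ := c.mc.ne_succ (i := n - 1 - a) (by omega)
    have h1 := c.mc.pairing hp3 c.exc (i := a) (j := n - 1 - a) ha1 (by omega) (by omega) (hUa hvU) hva hs hs'
    apply h1
    rw [commutatorElement_eq_one_iff_commute]
    exact (hUc v hvU s (hWtE (c.mc.antitone (by omega) hs))).symm
  have hat' : a + t = n := by
    have h1 : ∃ u ∈ U, ¬ Commute z u := by
      by_contra hcon
      push Not at hcon
      exact hzE (hcent z hcon)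
    obtain ⟨u, hu, hnc⟩ := h1
    by_contra hcon
    apply hnc
    have h2 := c.mc.comm_comm_mem hzW (hUa hu)
    rw [c.mc.bot_of_le (by omega), mem_bot, commutatorElement_eq_one_iff_commute] at h2
    exact h2
  have hzT : z ∈ normalizer (E : Set P) := by
    refine mem_norm c (j := t - 1) ?_ hzW
    refine le_trans (c.mc.comm_comm 1 (t - 1)) ?_
    rw [show t - 1 + 1 = t by omega]
    exact hWtE
  -- the action of `z`
  have hzc : ∀ u ∈ U, ⁅z, u⁆ ∈ W (n - 1) := by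
    intro u hu
    have h1 := c.mc.comm_comm_mem hzW (hUa hu)
    rwa [show t - 1 + a = n - 1 by omega] at h1
  have hzf : ∀ u ∈ U, u ∈ W (a + 1) → ⁅z, u⁆ = 1 := by
    intro u hu hu'
    have h1 := c.mc.comm_comm_mem hzW hu'
    rwa [c.mc.bot_of_le (by omega), mem_bot] at h1
  have hzv : ∀ u ∈ U, u ∉ W (a + 1) → ⁅z, u⁆ ≠ 1 := by
    intro u hu hu' h1
    apply c.mc.pairing hp3 c.exc (i := a) (j := t - 1) ha1 (by omega) (by omega) (hUa hu) hu' hzW
      (by rwa [show t - 1 + 1 = t by omega])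
    rw [← commutatorElement_inv, h1, inv_one]
  -- the action of `Γ`
  let _ : CommGroup U := { (inferInstance : Group U) with
    mul_comm := fun x y => Subtype.ext (hUcomm x x.2 y y.2) }
  have hact : ∀ (s : normalizer (E : Set P)) (u : U),
      ((rho hUE hUinv hUc (tau (mem_B c) s) u : U) : P) = s * (u : P) * (s : P)⁻¹ := fun s u => rfl
  have hmk : ∀ (g : B) (u : U), ((rho hUE hUinv hUc (QuotientGroup.mk' (innB B) g) u : U) : P) =
      (((g : MulAut E) ⟨u, hUE u.2⟩ : E) : P) := fun g u => rfl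
  generalize rho hUE hUinv hUc = ρ at hact hmk
  have hse := se c
  have htau1 : ∀ s : normalizer (E : Set P), tau (mem_B c) s = 1 ↔ (s : P) ∈ E := fun s => tau_eq_one c
  have hsur : ∀ γ ∈ (tau (mem_B c)).range, ∃ s : normalizer (E : Set P), tau (mem_B c) s = γ := by
    rintro _ ⟨s, rfl⟩
    exact ⟨s, rfl⟩
  have hdel : ∀ (s : normalizer (E : Set P)) (u : U),
      ((del (ρ (tau (mem_B c) s)) u : U) : P) = ⁅(s : P), (u : P)⁆ := by
    intro s u
    have h1 : (s : P) * u * (s : P)⁻¹ ∈ U := by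
      rw [← hact]
      exact SetLike.coe_mem _
    rw [del_apply, Subgroup.coe_mul, hact, Subgroup.coe_inv, commutatorElement_def]
    exact (hUcomm _ (inv_mem u.2) _ h1).eq
  set τ := tau (mem_B c) with hτ
  obtain ⟨zT, hzTz⟩ : ∃ zT : normalizer (E : Set P), (zT : P) = z := ⟨⟨z, hzT⟩, rfl⟩
  have hfix : ∀ u : U, u ∈ fix (ρ (τ zT)) ↔ (u : P) ∈ W (a + 1) := by
    intro u
    have h1 : u ∈ fix (ρ (τ zT)) ↔ ⁅z, (u : P)⁆ = 1 := by
      rw [← hzTz, ← hdel]
      constructor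
      · intro h2
        have h3 : del (ρ (τ zT)) u = 1 := h2
        rw [h3]
        rfl
      · intro h2
        exact Subtype.ext h2
    rw [h1]
    constructor
    · intro h2
      by_contra h3
      exact hzv u u.2 h3 h2
    · exact hzf u u.2
  have hcomle : ∀ u : U, u ∈ com (ρ (τ zT)) → (u : P) ∈ W (n - 1) := by
    rintro _ ⟨u, rfl⟩
    rw [hdel, hzTz]
    exact hzc u u.2
  have hZcard : Nat.card ((W (n - 1)).subgroupOf U) = p := by
    rw [Nat.card_congr (Subgroup.subgroupOfEquivOfLe hZU).toEquiv]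
    have h1 := c.mc.card_W 1 (by omega)
    rwa [pow_one] at h1
  have hd1 : del (ρ (τ zT)) ⟨v, hvU⟩ ≠ 1 := by
    intro h1
    have h2 : (⟨v, hvU⟩ : U) ∈ fix (ρ (τ zT)) := h1
    exact hva ((hfix _).mp h2)
  have hcomeq : com (ρ (τ zT)) = (W (n - 1)).subgroupOf U := by
    apply le_antisymm
    · intro u hu
      exact mem_subgroupOf.mpr (hcomle u hu)
    · exact le_of_card_prime_of_mem hZcard (mem_subgroupOf.mpr (hcomle _ (del_mem_com _ ⟨v, hvU⟩))) hd1
        (del_mem_com _ _)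
  have hcom : ∀ u : U, u ∈ com (ρ (τ zT)) ↔ (u : P) ∈ W (n - 1) := by
    intro u
    rw [hcomeq, mem_subgroupOf]
  have hcard : Nat.card (com (ρ (τ zT))) = p := by rw [hcomeq]; exact hZcard
  have hcf : com (ρ (τ zT)) ≤ fix (ρ (τ zT)) := by
    intro u hu
    rw [hfix]
    exact c.mc.antitone (by omega) (hcomle u hu)
  have hzp : IsPGroup p (zpowers (τ zT)) := by
    have h1 : IsPGroup p (zpowers zT) := (hpP.to_subgroup _).to_subgroup _
    have := h1.map τ
    rwa [MonoidHom.map_zpowers] at this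
  have hzH : τ zT ∈ Hbar B H := hse.le ⟨zT, rfl⟩
  -- `H` times the kernel
  have hHZ : ∀ γ ∈ Hbar B H ⊔ ρ.ker, ∀ x ∈ com (ρ (τ zT)), ρ γ x ∈ com (ρ (τ zT)) := by
    intro γ hγ x hx
    have hγ' : γ ∈ ((Hbar B H ⊔ ρ.ker : Subgroup (Gam B)) : Set (Gam B)) := hγ
    rw [Subgroup.mul_normal] at hγ'
    obtain ⟨y, hy, k, hk, rfl⟩ := hγ'
    obtain ⟨y, rfl⟩ := QuotientGroup.mk'_surjective (innB B) y
    show ρ (QuotientGroup.mk' (innB B) y * k) x ∈ _
    rw [map_mul, MonoidHom.mem_ker.mp hk, mul_one, hcom, hmk]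
    exact H_Z c ((mk_mem_Hbar c).mp hy) ((hcom x).mp hx)
  have hstab : ∀ g : B, QuotientGroup.mk' (innB B) g ∈ Hbar B H ⊔ ρ.ker → ∀ e : E, (e : P) ∈ W (n - 1) →
      (((g : MulAut E) e : E) : P) ∈ W (n - 1) := by
    intro g hg e he
    have h1 := hHZ _ hg ⟨e, hZU he⟩ ((hcom _).mpr he)
    rwa [hcom, hmk] at h1
  have hne : Hbar B H ⊔ ρ.ker ≠ ⊤ := by
    intro htop
    apply h
    intro g hg e he
    exact hstab ⟨g, hg⟩ (by rw [htop]; trivial) e he
  have hse' := hse.sup ρ.ker hne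
  obtain ⟨γ, hγ⟩ : ∃ γ, γ ∉ Hbar B H ⊔ ρ.ker := by
    by_contra hcon
    push Not at hcon
    exact hne (eq_top_iff.mpr fun x _ => hcon x)
  have hgen : ∀ X : Subgroup U, (∀ g : Gam B, ∀ x ∈ com (ρ (τ zT)), ρ g x ∈ X) → X = ⊤ := by
    intro X hX
    have h1 : U ≤ X.map U.subtype := by
      apply hUgen
      intro g hg e he
      have h2 := hX (QuotientGroup.mk' (innB B) ⟨g, hg⟩) ⟨e, hZU he⟩ ((hcom _).mpr he)
      exact ⟨_, h2, hmk ⟨g, hg⟩ ⟨e, hZU he⟩⟩
    rw [eq_top_iff]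
    intro x _
    obtain ⟨y, hy, e1⟩ := h1 x.2
    have e2 : y = x := Subtype.ext e1
    rw [← e2]
    exact hy
  have hzH' : τ zT ∈ Hbar B H ⊔ ρ.ker := (le_sup_left : Hbar B H ≤ _) hzH
  have htop := plane hse' le_sup_right hzH' hzp hcard hcf hHZ hgen hγ
  have hfc := fix_le_com hse' le_sup_right hzH' hzp hcard hcf hγ htop
  have htw := hse'.tw le_sup_right hzH' hzp hcard hcf hγ
  have hUZ : ∀ u ∈ U, u ∈ W (a + 1) → u ∈ W (n - 1) := by
    intro u hu hu'
    exact (hcom ⟨u, hu⟩).mp (hfc ((hfix ⟨u, hu⟩).mpr hu'))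
  have hvgen : ∀ u ∈ U, ∃ k : ℤ, (v ^ k)⁻¹ * u ∈ W (n - 1) := by
    intro u hu
    obtain ⟨k, hk⟩ := c.mc.exists_zpow (by omega) (hUa hvU) hva (hUa hu)
    exact ⟨k, hUZ _ (mul_mem (inv_mem (zpow_mem hvU k)) hu) hk⟩
  have hcv : ∀ s : P, Commute s v → s ∈ E := by
    intro s hs
    apply hcent
    intro u hu
    obtain ⟨k, hk⟩ := hvgen u hu
    have h1 : Commute s (v ^ k * ((v ^ k)⁻¹ * u)) :=
      (hs.zpow_right k).mul_right (c.mc.center_le hk s).symm
    rwa [mul_inv_cancel_left] at h1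
  have hUeq : zpowers v ⊔ W (n - 1) = U := by
    apply le_antisymm (sup_le (zpowers_le.mpr hvU) hZU)
    intro u hu
    obtain ⟨k, hk⟩ := hvgen u hu
    have h1 := mul_mem ((le_sup_left : zpowers v ≤ zpowers v ⊔ W (n - 1)) ⟨k, rfl⟩)
      ((le_sup_right : W (n - 1) ≤ zpowers v ⊔ W (n - 1)) hk)
    simp only at h1
    rwa [mul_inv_cancel_left] at h1
  -- `N_P(E) = E⟨z⟩`
  have hTgen : ∀ s : normalizer (E : Set P), ∃ m : ℤ, (s : P) * z ^ m ∈ E := by
    intro s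
    have h1 : del (ρ (τ s)) ⟨v, hvU⟩ ∈ com (ρ (τ zT)) := by
      rw [hcom]
      apply hUZ _ (SetLike.coe_mem _)
      rw [hdel]
      exact c.mc.comm_mem' (hUa hvU)
    obtain ⟨m, hm⟩ := exists_zpow_eq hcard (del_mem_com (ρ (τ zT)) ⟨v, hvU⟩) hd1 (inv_mem h1)
    refine ⟨m, hcv _ ?_⟩
    have h2 : ρ (τ (s * zT ^ m)) ⟨v, hvU⟩ = ⟨v, hvU⟩ := by
      rw [map_mul, map_mul, map_zpow, map_zpow, MulAut.mul_apply,
        zpow_apply (hcf (del_mem_com _ _)), hm, map_mul, map_inv]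
      have h3 : ρ (τ s) (del (ρ (τ s)) ⟨v, hvU⟩) = del (ρ (τ s)) ⟨v, hvU⟩ := by
        apply Subtype.ext
        rw [hact, ← (c.mc.center_le ((hcom _).mp h1) (s : P)).eq, mul_inv_cancel_right]
      rw [h3, apply_eq_mul_del (ρ (τ s)) ⟨v, hvU⟩, mul_inv_cancel_right]
    have h3 := congrArg Subtype.val h2
    rw [hact, Subgroup.coe_mul, Subgroup.coe_zpow, hzTz] at h3
    show s * z ^ m * v = v * (s * z ^ m)
    have h4 : s * z ^ m * v * (s * z ^ m)⁻¹ = v := h3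
    exact mul_inv_eq_iff_eq_mul.mp h4
  -- `t ≥ 3`
  have ht3 : 3 ≤ t := by
    by_contra hcon
    have ht : t = 2 := by omega
    subst ht
    have hE2 : E ≤ W 2 := by
      intro e he
      by_contra he'
      have h1 := c.mc.le_of_mem (i := 1) (by omega) (c.E_le he) he' he hWtE
      exact c.E_ne (le_antisymm c.E_le h1)
    have hEeq : E = W 2 := le_antisymm hE2 hWtE
    obtain ⟨x, hx, hx'⟩ := c.mc.ne_succ (i := 0) (by omega)
    have hxN : x ∈ normalizer (E : Set P) := by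
      have hn : E.Normal := by rw [hEeq]; exact c.mc.normal 2
      rw [Subgroup.normalizer_eq_top]
      trivial
    obtain ⟨m, hm⟩ := hTgen ⟨x, hxN⟩
    apply hx'
    have h1 : x * z ^ m ∈ W 1 := c.E_le hm
    have h2 : z ^ m ∈ W 1 := zpow_mem hzW m
    exact (mul_mem_cancel_right h2).mp h1
  -- an element of index `t - 2`
  have hye : ∃ y ∈ E, y ∈ W (t - 2) ∧ y ∉ W (t - 1) := by
    obtain ⟨y0, hy0, hy0'⟩ := c.mc.ne_succ (i := t - 2) (by omega)
    rw [show t - 2 + 1 = t - 1 by omega] at hy0'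
    have hyN : y0 ∈ normalizer (E : Set P) := by
      refine mem_norm c (j := t - 2) ?_ hy0
      refine le_trans (c.mc.deg_of_add_le hp3 (i := t - 2) (j := 1) (by omega) le_rfl (by omega)) ?_
      rw [show t - 2 + 1 + 1 = t by omega]
      exact hWtE
    obtain ⟨m, hm⟩ := hTgen ⟨y0, hyN⟩
    have h1 : z ^ m ∈ W (t - 1) := zpow_mem hzW m
    refine ⟨y0 * z ^ m, hm, mul_mem hy0 (c.mc.antitone (by omega) h1), fun h2 => hy0' ?_⟩
    exact (mul_mem_cancel_right h1).mp h2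
  -- the torus
  obtain ⟨ζ, hζ⟩ := IsCyclic.exists_generator (α := (ZMod p)ˣ)
  have hl : (p : ℤ) ∣ (((ζ : ZMod p).val : ℕ) : ℤ) * ((((ζ⁻¹ : (ZMod p)ˣ) : ZMod p).val : ℕ) : ℤ) - 1 := by
    rw [← ZMod.intCast_zmod_eq_zero_iff_dvd]
    push_cast
    simp only [ZMod.natCast_val, ZMod.cast_id', id_eq]
    rw [mul_inv_cancel₀ (Units.ne_zero ζ), sub_self]
  have hζval : (((ζ : ZMod p).val : ℕ) : ZMod p) = ζ := by
    rw [ZMod.natCast_val, ZMod.cast_id', id_eq]
  have hcardU : orderOf ζ = p - 1 := by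
    rw [orderOf_eq_card_of_forall_mem_zpowers hζ, Nat.card_eq_fintype_card, ZMod.card_units]
  have hlprim : ∀ m : ℕ, (((ζ : ZMod p).val : ℕ) : ZMod p) ^ m = 1 → p - 1 ∣ m := by
    intro m hm
    rw [hζval, ← Units.val_pow_eq_pow_val] at hm
    rw [← hcardU]
    exact orderOf_dvd_of_pow_eq_one (Units.ext hm)
  generalize (ζ : ZMod p).val = l at hl hlprim
  generalize ((ζ⁻¹ : (ZMod p)ˣ) : ZMod p).val = l' at hl
  obtain ⟨_, ⟨k0, rfl⟩, hk1, hk2, -, hk4⟩ := htw.torus hl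
  have hRN : τ.range ≤ (zpowers (ρ (τ zT))).comap ρ := by
    rintro _ ⟨s, rfl⟩
    obtain ⟨m, hm⟩ := hTgen s
    have h1 : τ (s * zT ^ m) = 1 := by
      rw [htau1, Subgroup.coe_mul, Subgroup.coe_zpow, hzTz]
      exact hm
    rw [map_mul, map_zpow] at h1
    rw [mem_comap, eq_inv_of_mul_eq_one_left h1, map_inv, map_zpow]
    exact inv_mem ⟨m, rfl⟩
  have hSN : τ.range.map (MulAut.conj k0).toMonoidHom ≤ (zpowers (ρ (τ zT))).comap ρ := by
    rintro _ ⟨r, hr, rfl⟩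
    obtain ⟨j, hj⟩ := hRN hr
    have hj' : ρ (τ zT) ^ j = ρ r := hj
    show ρ (k0 * r * k0⁻¹) ∈ zpowers (ρ (τ zT))
    rw [map_mul, map_mul, map_inv, ← hj', ← conj_zpow, hk4]
    exact zpow_mem (zpow_mem (mem_zpowers _) _) _
  have hSp : IsPGroup p (τ.range.map (MulAut.conj k0).toMonoidHom) := hse.pgroup.map _
  obtain ⟨g', hg'N, hg'⟩ := hse.exists_conj_in hRN hSN hSp
  obtain ⟨j, hj⟩ := hg'N
  have hj' : ρ (τ zT) ^ j = ρ g' := hj
  have hzR : τ zT ∈ τ.range := ⟨zT, rfl⟩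
  -- the element `k1`
  obtain ⟨k1, hk1def⟩ : ∃ k1, k1 = τ zT ^ j * g'⁻¹ * k0 := ⟨_, rfl⟩
  have hρk1 : ρ k1 = ρ k0 := by
    rw [hk1def, map_mul, map_mul, map_zpow, hj', map_inv, mul_inv_cancel, one_mul]
  have hk1R : k1 * τ zT * k1⁻¹ ∈ τ.range := by
    have h1 := hg' (k0 * τ zT * k0⁻¹) ⟨τ zT, hzR, rfl⟩
    have h2 : k1 * τ zT * k1⁻¹ = τ zT ^ j * (g'⁻¹ * (k0 * τ zT * k0⁻¹) * g') * (τ zT ^ j)⁻¹ := by
      rw [hk1def]; group
    rw [h2]
    exact mul_mem (mul_mem (zpow_mem hzR j) h1) (inv_mem (zpow_mem hzR j))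
  have hz1 : τ zT ≠ 1 := by
    intro e
    apply hzE
    rw [← hzTz]
    exact (htau1 _).mp e
  have hk1H : k1 ∈ Hbar B H := by
    have h1 := hse.emb_all hzH hzp hz1 (g := k1⁻¹) (by rw [inv_inv]; exact hse.le hk1R)
    simpa using inv_mem h1
  obtain ⟨s', hs'⟩ := hsur _ hk1R
  obtain ⟨k, hk⟩ := QuotientGroup.mk'_surjective (innB B) k1
  have hkH : (k : MulAut E) ∈ H := by
    rw [← hk] at hk1H
    exact (mk_mem_Hbar c).mp hk1H
  obtain ⟨x, hx⟩ : ∃ x : E, E.normalizerMonoidHom s' =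
      (k : MulAut E) * E.normalizerMonoidHom zT * (k : MulAut E)⁻¹ * MulAut.conj x := by
    have h1 : QuotientGroup.mk' (innB B) (k * ⟨E.normalizerMonoidHom zT, mem_B c zT⟩ * k⁻¹) =
        QuotientGroup.mk' (innB B) ⟨E.normalizerMonoidHom s', mem_B c s'⟩ := by
      rw [map_mul, map_mul, map_inv, hk, ← tau_mk, ← tau_mk, ← hτ, hs']
    obtain ⟨x, hx⟩ := mk_eq_iff.mp h1
    exact ⟨x, hx⟩
  -- the element `z'`
  obtain ⟨z', hz'⟩ : ∃ z' : normalizer (E : Set P), z' = s' * ofE x⁻¹ := ⟨_, rfl⟩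
  have hz'k : E.normalizerMonoidHom z' * (k : MulAut E) = (k : MulAut E) * E.normalizerMonoidHom zT := by
    rw [hz', map_mul, nmh_ofE, hx, map_inv]
    group
  have hτz' : τ z' = k1 * τ zT * k1⁻¹ := by
    rw [← hs', hz', map_mul]
    have h1 : τ (ofE x⁻¹) = 1 := (htau1 _).mpr (SetLike.coe_mem x⁻¹)
    rw [h1, mul_one]
  have hρz' : ρ (τ z') = ρ (τ zT) ^ ((l : ℤ) ^ 2) := by
    rw [hτz', map_mul, map_mul, map_inv, hρk1, hk4]
  have hkU : ∀ u : U, (((k : MulAut E) ⟨u, hUE u.2⟩ : E) : P) = ((ρ k0 u : U) : P) := by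
    intro u
    rw [← hmk, hk, hρk1]
  refine ⟨a, t, l, v, z, (k : MulAut E), ?_⟩
  exact
  { one_le_a := ha1
    a_add_t := hat'
    three_le_t := ht3
    Wt_le := hWtE
    z_mem := hzW
    z_not := hzE
    v_mem := hUa hvU
    v_not := hva
    v_E := hUE hvU
    v_pow := hUp v hvU
    E_iff := fun w _ => ⟨fun hw => hUc v hvU w hw, fun hw => hcv w hw⟩
    exists_e := hye
    V0_inv := by rw [hUeq]; exact hUinv
    not_inv := h
    k_H := hkH
    k_Z := by
      intro e he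
      apply Subtype.ext
      have h1 := hkU ⟨e, hZU he⟩
      rw [hk1 _ ((hcom ⟨e, hZU he⟩).mpr he)] at h1
      rw [Subgroup.coe_zpow, zpow_natCast] at h1
      rw [Subgroup.coe_pow]
      exact h1
    k_V := by
      intro e he
      rw [hUeq] at he
      have h1 := hkU ⟨e, he⟩
      have h2 : (⟨e, he⟩ : U) ∈ com (ρ (τ zT)) ⊔ com (ρ (γ * τ zT * γ⁻¹)) := by rw [htop]; trivial
      obtain ⟨y, hy, w, hw, hyw⟩ := mem_sup.mp h2
      have h3 : (ρ k0 ⟨e, he⟩) ^ l * (⟨e, he⟩ : U)⁻¹ = (y ^ (l : ℤ)) ^ l * y⁻¹ := by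
        rw [← hyw, map_mul, hk1 y hy, hk2 w hw, mul_pow, mul_inv, mul_mul_mul_comm]
        have h4 : (w ^ (l' : ℤ)) ^ l * w⁻¹ = 1 := by
          have hwp : w ^ p = 1 := Subtype.ext (hUp w w.2)
          rw [← zpow_natCast (w ^ (l' : ℤ)) l, ← zpow_mul, ← zpow_neg_one, ← zpow_add]
          obtain ⟨q, hq⟩ := hl
          rw [show (l' : ℤ) * l + -1 = p * q by rw [← hq]; ring, zpow_mul, zpow_natCast, hwp, one_zpow]
        rw [h4, mul_one]
      have h4 : (((k : MulAut E) e : E) : P) ^ l * (e : P)⁻¹ = (((y ^ (l : ℤ)) ^ l * y⁻¹ : U) : P) := by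
        rw [← h3, Subgroup.coe_mul, Subgroup.coe_pow, Subgroup.coe_inv, ← h1]
      show (((k : MulAut E) e ^ l * e⁻¹ : E) : P) ∈ W (n - 1)
      rw [Subgroup.coe_mul, Subgroup.coe_pow, Subgroup.coe_inv, h4, ← hcom]
      exact mul_mem (pow_mem (zpow_mem hy _) _) (inv_mem hy)
    k_z := by
      refine ⟨z', ?_, ?_⟩
      · have h1 : ρ (τ (z' * (zT ^ (l ^ 2))⁻¹)) = 1 := by
          rw [map_mul, map_mul, map_inv, map_inv, map_pow, map_pow, hρz', mul_inv_eq_one,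
            ← zpow_natCast, Nat.cast_pow]
        apply hcent
        intro u hu
        have h2 : ρ (τ (z' * (zT ^ (l ^ 2))⁻¹)) ⟨u, hu⟩ = ⟨u, hu⟩ := by rw [h1]; rfl
        have h3 := congrArg Subtype.val h2
        rw [hact, Subgroup.coe_mul, Subgroup.coe_inv, Subgroup.coe_pow, hzTz] at h3
        exact mul_inv_eq_iff_eq_mul.mp h3
      · intro e e' he
        have h1 := congrArg (fun f : MulAut E => ((f e : E) : P)) hz'k
        simp only [MulAut.mul_apply] at h1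
        rw [nmh_apply] at h1
        have h2 : E.normalizerMonoidHom zT e = e' := by
          apply Subtype.ext
          rw [nmh_apply, hzTz, he]
        rw [h2] at h1
        exact h1.symm
    l_prim := hlprim }

end Cfsg.Agent.H467.XThree
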