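import Cfsg.Agent.H467.XQuot
import Cfsg.Agent.H467.XPlane

/-!
# The invariant subgroup generated by the centre (helper467; step (W3) of S5267)
-/

set_option autoImplicit false

namespace Cfsg.Agent.H467.XThree

open Subgroup Cfsg.Agent.H467.MaxClass Cfsg.Agent.H785 Cfsg.Agent.H786
open scoped commutatorElement

universe u

variable {P : Type u} [Group P]

/-- Exceptional groups have even `n` with `6 ≤ n ≤ p + 1`. -/
theorem six_le {p n : ℕ} {W : ℕ → Subgroup P} [Finite P] [hp : Fact p.Prime] (mc : MC P p n W) (hp3 : 3 ≤ p)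
    (exc : mc.Ksub (n - 2) ≠ W 1) : Even n ∧ 6 ≤ n ∧ n ≤ p + 1 := by
  have h4 := mc.four_le
  have heven : Even n := by
    by_contra hodd
    exact exc (mc.Ksub_last_of_odd hp3 (Nat.not_even_iff_odd.mp hodd))
  have hn4 : n ≠ 4 := by
    intro e
    apply exc
    apply mc.eq_W1
    · intro y hy w hw
      rw [e] at hw ⊢
      exact mc.two (commutator_mem_commutator hw hy)
    · exact mc.Ksub_ne_top' (by omega) (by omega)
  refine ⟨heven, ?_, ?_⟩
  · obtain ⟨k, hk⟩ := heven
    omega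
  · by_contra hcon
    exact exc (mc.Ksub_last_of_le hp3 (by omega))

variable {E : Subgroup P}

/-- the subgroup generated by the images of `Z` under `B` -/
def vz (B : Subgroup (MulAut E)) (Z : Subgroup P) : Subgroup P :=
  Subgroup.closure {x | ∃ g ∈ B, ∃ e : E, (e : P) ∈ Z ∧ ((g e : E) : P) = x}

theorem vz_inv (B : Subgroup (MulAut E)) (Z : Subgroup P) : ZInv B (vz B Z) := by
  intro g hg e he
  have key : vz B Z ≤ (((vz B Z).subgroupOf E).comap g.toMonoidHom).map E.subtype := by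
    rw [vz, Subgroup.closure_le]
    rintro _ ⟨g', hg', e', he', rfl⟩
    refine ⟨g' e', ?_, rfl⟩
    show ((g (g' e') : E) : P) ∈ Subgroup.closure _
    apply Subgroup.subset_closure
    exact ⟨g * g', mul_mem hg hg', e', he', rfl⟩
  obtain ⟨e', he', e1⟩ := key he
  have e2 : e' = e := Subtype.ext e1
  rw [← e2]
  exact he'

theorem le_vz {B : Subgroup (MulAut E)} {Z : Subgroup P} (hZ : Z ≤ E) : Z ≤ vz B Z := by
  intro x hx
  exact Subgroup.subset_closure ⟨1, one_mem _, ⟨x, hZ hx⟩, hx, rfl⟩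

/-- the central elements of exponent `p` -/
def om (E : Subgroup P) (p : ℕ) : Subgroup P where
  carrier := {x | x ∈ E ∧ (∀ e ∈ E, Commute e x) ∧ x ^ p = 1}
  one_mem' := ⟨one_mem _, fun e _ => Commute.one_right e, one_pow _⟩
  mul_mem' := by
    rintro x y ⟨h1, h2, h3⟩ ⟨h1', h2', h3'⟩
    refine ⟨mul_mem h1 h1', fun e he => (h2 e he).mul_right (h2' e he), ?_⟩
    rw [(h2' x h1).mul_pow, h3, h3', one_mul]
  inv_mem' := by
    rintro x ⟨h1, h2, h3⟩
    exact ⟨inv_mem h1, fun e he => (h2 e he).inv_right, by rw [inv_pow, h3, inv_one]⟩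

theorem vz_le_om {B : Subgroup (MulAut E)} {Z : Subgroup P} {p : ℕ} (hZ : Z ≤ om E p) : vz B Z ≤ om E p := by
  rw [vz, Subgroup.closure_le]
  rintro _ ⟨g, hg, e, he, rfl⟩
  obtain ⟨h1, h2, h3⟩ := hZ he
  refine ⟨SetLike.coe_mem _, fun x hx => ?_, ?_⟩
  · obtain ⟨x', hx'⟩ := g.surjective ⟨x, hx⟩
    have h4 : e * x' = x' * e := Subtype.ext (h2 x' x'.2).symm
    have h5 := congrArg g h4
    rw [map_mul, map_mul, hx'] at h5
    exact (congrArg Subtype.val h5).symm
  · have h4 : e ^ p = 1 := Subtype.ext h3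
    have h5 := congrArg g h4
    rw [map_pow, map_one] at h5
    exact congrArg Subtype.val h5

variable {p n : ℕ} {W : ℕ → Subgroup P} [hW1 : (W 1).Normal] {A : Subgroup (MulAut (W 1))}
  {B H : Subgroup (MulAut E)}

/-- `H` preserves the centre of `P` -/
theorem H_Z (c : CfgX p n W A E B H) {h : MulAut E} (hh : h ∈ H) {e : E} (he : (e : P) ∈ W (n - 1)) :
    ((h e : E) : P) ∈ W (n - 1) := by
  obtain ⟨a, ha, h1⟩ := c.ext h hh
  rw [← h1]
  exact aInv_iff.mp c.Z_inv a ha _ (c.E_le e.2) he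

variable [Finite P] [hp : Fact p.Prime]

omit [Finite P] hp in
theorem Z_le (c : CfgX p n W A E B H) : W (n - 1) ≤ om E p := by
  intro x hx
  have h4 := c.mc.four_le
  have hc : ∀ y, Commute x y := fun y => c.mc.center_le hx y
  refine ⟨c.cent x fun e _ => hc e, fun e _ => (hc e).symm, ?_⟩
  have h1 := c.mc.card_W 1 (by omega)
  rw [pow_one] at h1
  have h2 : (⟨x, hx⟩ : W (n - 1)) ^ Nat.card (W (n - 1)) = 1 := pow_card_eq_one'
  rw [h1] at h2
  exact congrArg Subtype.val h2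

/-- **Lemma F.** -/
theorem faithful (c : CfgX p n W A E B H) (h : ¬ ZInv B (W (n - 1))) {U : Subgroup P} (hUE : U ≤ E)
    (hU : ZInv B U) (hc : ∀ u ∈ U, ∀ e ∈ E, Commute e u) (hZU : W (n - 1) ≤ U)
    {s : normalizer (E : Set P)} (hs : ∀ u ∈ U, Commute (s : P) u) : (s : P) ∈ E := by
  by_contra hsE
  apply h
  have hs1 : tau (mem_B c) s ≠ 1 := fun e => hsE ((tau_eq_one c).mp e)
  have hsk : tau (mem_B c) s ∈ (rho hUE hU hc).ker := by
    rw [MonoidHom.mem_ker]
    apply MulEquiv.ext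
    intro u
    apply Subtype.ext
    rw [rho_tau, (hs u u.2).eq, mul_inv_cancel_right]
    rfl
  intro g hg e he
  obtain ⟨y, hy, k, hk, e1⟩ := (se c).frattini hsk ⟨s, rfl⟩ hs1 (QuotientGroup.mk' (innB B) ⟨g, hg⟩)
  obtain ⟨k, rfl⟩ := QuotientGroup.mk'_surjective (innB B) k
  rw [mk_mem_Hbar c] at hk
  have e2 := rho_mk hUE hU hc ⟨g, hg⟩ ⟨e, hZU he⟩
  rw [e1, map_mul, MonoidHom.mem_ker.mp hy, one_mul, rho_mk] at e2
  have e3 : ((g e : E) : P) = (((k : MulAut E) e : E) : P) := e2.symm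
  rw [e3]
  exact H_Z c hk he

/-- `E` is the centralizer -/
theorem mem_E_of_cent (c : CfgX p n W A E B H) (h : ¬ ZInv B (W (n - 1))) {U : Subgroup P} (hUE : U ≤ E)
    (hU : ZInv B U) (hc : ∀ u ∈ U, ∀ e ∈ E, Commute e u) (hZU : W (n - 1) ≤ U)
    {s : P} (hs : ∀ u ∈ U, Commute s u) : s ∈ E := by
  by_contra hsE
  set C : Subgroup P := Subgroup.centralizer (U : Set P) with hC
  have hmemC : ∀ x, x ∈ C ↔ ∀ v ∈ U, Commute x v := by
    intro x
    rw [hC, mem_centralizer_iff]
    exact ⟨fun h v hv => (h v hv).symm, fun h v hv => (h v hv).symm⟩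
  have hEC : E ≤ C := fun e he => (hmemC e).mpr (fun v hv => hc v hv e he)
  have hlt : E.subgroupOf C < ⊤ := by
    rw [lt_top_iff_ne_top]
    intro h
    rw [subgroupOf_eq_top] at h
    exact hsE (h ((hmemC s).mpr hs))
  have hpP : IsPGroup p P := IsPGroup.of_card c.mc.card_group
  have hnil : Group.IsNilpotent C := (hpP.to_subgroup C).isNilpotent
  have h1 := Group.normalizerCondition_of_isNilpotent (G := C) _ hlt
  obtain ⟨⟨y, hyC⟩, hy, hy'⟩ := SetLike.exists_of_lt h1
  apply hy'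
  rw [mem_subgroupOf]
  have hyN : y ∈ normalizer (E : Set P) := by
    rw [mem_normalizer_iff] at hy ⊢
    intro e
    constructor
    · intro he
      have := (hy ⟨e, hEC he⟩).mp (mem_subgroupOf.mpr he)
      simpa [mem_subgroupOf] using this
    · intro he
      have heC : e ∈ C := by
        have := C.mul_mem (C.mul_mem (C.inv_mem hyC) (hEC he)) hyC
        have e2 : y⁻¹ * (y * e * y⁻¹) * y = e := by group
        rwa [e2] at this
      have := (hy ⟨e, heC⟩).mpr (mem_subgroupOf.mpr (by simpa using he))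
      exact mem_subgroupOf.mp this
  exact faithful c h hUE hU hc hZU (s := ⟨y, hyN⟩) ((hmemC y).mp hyC)

end Cfsg.Agent.H467.XThree
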